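import Mathlib
import Cfsg.Agent.Mrg.Omega.IId.Fac

-- merged: Cfsg.Agent.Omega.NOThreeL.ATwo.Core
section

/-!
# NO-3L A2 (text #14933 (2), helper850): the pair `U`, `U'` over `D = C_G(V')`

`U`, `U'` abelian of exponent 2, `U ∩ U' = 1`, `D` normalises `U`, `U'`, which normalise `D`, `a ∈ U`, `b ∈ U'`,
`ρ = a b`, `U^ρ = U'`. `Y = U ∩ D`, `Y' = U' ∩ D`, `pi u y = [u, y^ρ]` for `u ∈ U`, `y ∈ Y`.

* `Co.comm` : `[Y, Y'] = 1`; `pi_mem`, `pi_mul`, `mul_pi` : `pi` is a bimultiplicative map `U × Y → Y`, trivial on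
  `Y × Y`;
* `Co.pi_a` : `pi a y = y`;
* `Co.key` : `pi u (pi v (pi u y)) = 1` if `[u, v^ρ] ∈ D`;
* `Co.idem` : `pi u (pi u y) = pi u y` if moreover `u v ∈ a D` and `[v, u^ρ] ∈ D`;
* `Co.orth` : `pi u (pi v y) = 1` if `pi u`, `pi v`, `pi (u v)` are idempotent and `[u, v^ρ] ∈ D`.
-/

set_option autoImplicit false
set_option Elab.async false

namespace Cfsg.Agent.Omega.NOThreeL.ATwo

open Subgroup

universe u

variable {G : Type u} [Group G]

/-- The pair `U`, `U'` over `D`. -/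
structure Co (U U' D : Subgroup G) (a b : G) : Prop where
  aU : a ∈ U
  bU : b ∈ U'
  ab : ∀ u ∈ U, ∀ v ∈ U, u * v = v * u
  ab' : ∀ u ∈ U', ∀ v ∈ U', u * v = v * u
  sq : ∀ u ∈ U, u * u = 1
  inf : ∀ x, x ∈ U → x ∈ U' → x = 1
  DU : ∀ d ∈ D, ∀ u ∈ U, d * u * d⁻¹ ∈ U
  DU' : ∀ d ∈ D, ∀ u ∈ U', d * u * d⁻¹ ∈ U'
  UD : ∀ u ∈ U, ∀ d ∈ D, u * d * u⁻¹ ∈ D
  UD' : ∀ u ∈ U', ∀ d ∈ D, u * d * u⁻¹ ∈ D
  rho : ∀ u ∈ U, a * b * u * (a * b)⁻¹ ∈ U'

/-- `[u, y^ρ]` -/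
def pi (a b u y : G) : G := u * (a * b * y * (a * b)⁻¹) * u⁻¹ * (a * b * y * (a * b)⁻¹)⁻¹

namespace Co

variable {U U' D : Subgroup G} {a b : G} (h : Co U U' D a b)
include h

theorem sq' {u : G} (hu : u ∈ U) : u⁻¹ = u := inv_eq_of_mul_eq_one_left (h.sq u hu)

theorem rho_D {d : G} (hd : d ∈ D) : a * b * d * (a * b)⁻¹ ∈ D := by
  have e : a * b * d * (a * b)⁻¹ = a * (b * d * b⁻¹) * a⁻¹ := by group
  rw [e]
  exact h.UD a h.aU _ (h.UD' b h.bU d hd)

/-- `y^ρ ∈ Y'` -/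
theorem rho_Y {y : G} (hy : y ∈ U) (hyD : y ∈ D) :
    a * b * y * (a * b)⁻¹ ∈ U' ∧ a * b * y * (a * b)⁻¹ ∈ D := ⟨h.rho y hy, h.rho_D hyD⟩

/-- `[Y, Y'] = 1` -/
theorem comm {y x : G} (hy : y ∈ U) (hyD : y ∈ D) (hx : x ∈ U') (hxD : x ∈ D) : y * x = x * y := by
  have h1 : y * x * y⁻¹ * x⁻¹ = 1 := by
    refine h.inf _ ?_ ?_
    · have e : y * x * y⁻¹ * x⁻¹ = y * (x * y⁻¹ * x⁻¹) := by group
      rw [e]
      exact mul_mem hy (h.DU x hxD _ (inv_mem hy))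
    · exact mul_mem (h.DU' y hyD x hx) (inv_mem hx)
  calc y * x = y * x * y⁻¹ * x⁻¹ * x * y := by group
    _ = x * y := by rw [h1, one_mul]

/-- `[U, Y'] ≤ Y` -/
theorem comm_mem {u x : G} (hu : u ∈ U) (hx : x ∈ D) :
    u * x * u⁻¹ * x⁻¹ ∈ U ∧ u * x * u⁻¹ * x⁻¹ ∈ D := by
  constructor
  · have e : u * x * u⁻¹ * x⁻¹ = u * (x * u⁻¹ * x⁻¹) := by group
    rw [e]
    exact mul_mem hu (h.DU x hx _ (inv_mem hu))
  · exact mul_mem (h.UD u hu x hx) (inv_mem hx)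

theorem pi_mem {u y : G} (hu : u ∈ U) (hyD : y ∈ D) :
    pi a b u y ∈ U ∧ pi a b u y ∈ D := h.comm_mem hu (h.rho_D hyD)

/-- `pi` is multiplicative in the second variable. -/
theorem pi_mul {u x y : G} (hu : u ∈ U) (hx : x ∈ U) (hxD : x ∈ D) (hy : y ∈ U) (hyD : y ∈ D) :
    pi a b u (x * y) = pi a b u x * pi a b u y := by
  obtain ⟨h1, h2⟩ := h.rho_Y hx hxD
  have h3 := h.pi_mem hu hyD
  have h4 := h.comm h3.1 h3.2 h1 h2
  unfold pi at h4 ⊢
  set X := a * b * x * (a * b)⁻¹ with hX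
  set Z := a * b * y * (a * b)⁻¹ with hZ
  have e : a * b * (x * y) * (a * b)⁻¹ = X * Z := by rw [hX, hZ]; group
  rw [e]
  calc u * (X * Z) * u⁻¹ * (X * Z)⁻¹ = u * X * u⁻¹ * (u * Z * u⁻¹ * Z⁻¹) * X⁻¹ := by group
    _ = u * X * u⁻¹ * ((u * Z * u⁻¹ * Z⁻¹ * X) * X⁻¹) * X⁻¹ := by group
    _ = u * X * u⁻¹ * ((X * (u * Z * u⁻¹ * Z⁻¹)) * X⁻¹) * X⁻¹ := by rw [h4]
    _ = u * X * u⁻¹ * (X * (u * Z * u⁻¹ * Z⁻¹) * X⁻¹) * X⁻¹ := by group
    _ = u * X * u⁻¹ * X⁻¹ * (u * Z * u⁻¹ * Z⁻¹) := by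
        have h5 : X * (u * Z * u⁻¹ * Z⁻¹) * X⁻¹ = X⁻¹ * (u * Z * u⁻¹ * Z⁻¹) * X := by
          have h6 : X * (u * Z * u⁻¹ * Z⁻¹) * X⁻¹ = u * Z * u⁻¹ * Z⁻¹ := by
            rw [← h4]; group
          have h7 : X⁻¹ * (u * Z * u⁻¹ * Z⁻¹) * X = u * Z * u⁻¹ * Z⁻¹ := by
            rw [mul_assoc, h4]; group
          rw [h6, h7]
        rw [h5]; group

/-- `pi` is multiplicative in the first variable. -/
theorem mul_pi {u v y : G} (hu : u ∈ U) (hv : v ∈ U) (hyD : y ∈ D) :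
    pi a b (u * v) y = pi a b u y * pi a b v y := by
  have h1 := (h.pi_mem hv hyD).1
  have h2 := h.ab u hu _ h1
  have h3 := h.ab _ (h.pi_mem hu hyD).1 _ h1
  rw [h3]
  unfold pi at h2 ⊢
  set Z := a * b * y * (a * b)⁻¹ with hZ
  calc u * v * Z * (u * v)⁻¹ * Z⁻¹ = u * (v * Z * v⁻¹ * Z⁻¹) * (Z * u⁻¹ * Z⁻¹) := by group
    _ = (v * Z * v⁻¹ * Z⁻¹) * u * (Z * u⁻¹ * Z⁻¹) := by rw [h2]
    _ = v * Z * v⁻¹ * Z⁻¹ * (u * Z * u⁻¹ * Z⁻¹) := by group

/-- `pi` is trivial on `Y × Y`. -/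
theorem pi_eq_one {u y : G} (hu : u ∈ U) (huD : u ∈ D) (hy : y ∈ U) (hyD : y ∈ D) : pi a b u y = 1 := by
  obtain ⟨h1, h2⟩ := h.rho_Y hy hyD
  unfold pi
  rw [h.comm hu huD h1 h2]
  group

theorem pi_one {u : G} : pi a b u 1 = 1 := by
  unfold pi
  group

theorem pi_congr {u v y : G} (hu : u ∈ U) (hv : v ∈ U) (huv : u * v⁻¹ ∈ D) (hy : y ∈ U) (hyD : y ∈ D) :
    pi a b u y = pi a b v y := by
  have h1 : u = u * v⁻¹ * v := by group
  rw [h1, h.mul_pi (mul_mem hu (inv_mem hv)) hv hyD,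
    h.pi_eq_one (mul_mem hu (inv_mem hv)) huv hy hyD, one_mul]

/-- `pi a y = y` -/
theorem pi_a {y : G} (hy : y ∈ U) (hyD : y ∈ D) : pi a b a y = y := by
  obtain ⟨h1, h2⟩ := h.rho_Y hy hyD
  -- `t = [b, y]`
  have ht : b * y * b⁻¹ * y⁻¹ ∈ U' := by
    have e : b * y * b⁻¹ * y⁻¹ = b * (y * b⁻¹ * y⁻¹) := by group
    rw [e]
    exact mul_mem h.bU (h.DU' y hyD _ (inv_mem h.bU))
  have htD : b * y * b⁻¹ * y⁻¹ ∈ D := mul_mem (h.UD' b h.bU y hyD) (inv_mem hyD)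
  set t := b * y * b⁻¹ * y⁻¹ with hte
  obtain ⟨hk, hkD⟩ := h.comm_mem h.aU htD
  set κ := a * t * a⁻¹ * t⁻¹ with hκ
  have e1 : a * b * y * (a * b)⁻¹ = κ * y * t := by
    have h3 := h.ab a h.aU y hy
    have h4 := h.comm hy hyD ht htD
    calc a * b * y * (a * b)⁻¹ = a * (b * y * b⁻¹ * y⁻¹) * y * a⁻¹ := by group
      _ = a * t * (y * a⁻¹) := by rw [← hte]; group
      _ = a * t * (a⁻¹ * y) := by
          have h5 : y * a⁻¹ = a⁻¹ * y := by
            calc y * a⁻¹ = a⁻¹ * (a * y) * a⁻¹ := by group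
              _ = a⁻¹ * (y * a) * a⁻¹ := by rw [h3]
              _ = a⁻¹ * y := by group
          rw [h5]
      _ = a * t * a⁻¹ * t⁻¹ * (t * y) := by group
      _ = κ * (y * t) := by rw [← hκ, h4]
      _ = κ * y * t := by group
  have e2 : κ * y = 1 := by
    refine h.inf _ (mul_mem hk hy) ?_
    have e3 : κ * y = a * b * y * (a * b)⁻¹ * t⁻¹ := by rw [e1]; group
    rw [e3]
    exact mul_mem h1 (inv_mem ht)
  have e4 : κ = y := by
    have h5 : κ = y⁻¹ := mul_eq_one_iff_eq_inv.1 e2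
    rw [h5, h.sq' hy]
  have e5 : a * b * y * (a * b)⁻¹ = t := by rw [e1, e2, one_mul]
  unfold pi
  rw [e5]
  exact e4

/-- `[v^ρ, y] = (pi v y)^ρ` -/
theorem rho_conj {v y : G} (hv : v ∈ U) (hy : y ∈ U) (hyD : y ∈ D) :
    (a * b * v * (a * b)⁻¹) * y * (a * b * v * (a * b)⁻¹)⁻¹ =
      a * b * pi a b v y * (a * b)⁻¹ * y := by
  obtain ⟨h1, h2⟩ := h.rho_Y hy hyD
  have h3 := h.pi_a hy hyD
  have h4 := h.rho v hv
  have h5 := h.ab' _ h4 _ h1
  have h6 := h.ab' _ h1 _ h.bU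
  have h7 := h.comm hy hyD h1 h2
  set ρ := a * b with hρ
  set Z := ρ * y * ρ⁻¹ with hZ
  set v' := ρ * v * ρ⁻¹ with hv'
  -- `Z^ρ = y Z`
  have e1 : ρ * Z * ρ⁻¹ = y * Z := by
    have e2 : ρ * Z * ρ⁻¹ = a * Z * a⁻¹ := by
      rw [hρ]
      calc a * b * Z * (a * b)⁻¹ = a * (b * Z) * b⁻¹ * a⁻¹ := by group
        _ = a * (Z * b) * b⁻¹ * a⁻¹ := by rw [h6]
        _ = a * Z * a⁻¹ := by group
    rw [e2]
    have e3 : a * Z * a⁻¹ = pi a b a y * Z := by
      unfold pi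
      rw [← hρ, ← hZ]
      group
    rw [e3, h3]
  have e4 : pi a b v y = v * Z * v⁻¹ * Z⁻¹ := rfl
  have e5 : v' * (y * Z) * v'⁻¹ = ρ * pi a b v y * ρ⁻¹ * (y * Z) := by
    rw [← e1, e4, hv']
    group
  calc v' * y * v'⁻¹ = v' * (y * Z) * v'⁻¹ * (v' * Z * v'⁻¹)⁻¹ := by group
    _ = v' * (y * Z) * v'⁻¹ * Z⁻¹ := by
        have e6 : v' * Z * v'⁻¹ = Z := by rw [h5]; group
        rw [e6]
    _ = ρ * pi a b v y * ρ⁻¹ * y := by rw [e5]; group

/-- The relation from `[u, v^ρ] ∈ D`. -/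
theorem key {u v y : G} (hu : u ∈ U) (hv : v ∈ U)
    (hd : u * (a * b * v * (a * b)⁻¹) * u⁻¹ * (a * b * v * (a * b)⁻¹)⁻¹ ∈ D)
    (hy : y ∈ U) (hyD : y ∈ D) : pi a b u (pi a b v (pi a b u y)) = 1 := by
  obtain ⟨h1, h2⟩ := h.rho_Y hy hyD
  obtain ⟨hx, hxD⟩ := h.pi_mem (u := u) hu hyD
  obtain ⟨hw, hwD⟩ := h.pi_mem (u := v) hv hxD
  have h4 := h.rho v hv
  have h5 := h.ab' _ h4 _ h1
  have h6 := h.rho_conj hv hx hxD
  obtain ⟨h7, h8⟩ := h.rho_Y hw hwD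
  obtain ⟨h9, h10⟩ := h.pi_mem (u := u) hu hwD
  have hdm := h.DU' _ hd _ h1
  set Z := a * b * y * (a * b)⁻¹ with hZ
  set v' := a * b * v * (a * b)⁻¹ with hv'
  set x := pi a b u y with hxe
  set w := pi a b v x with hwe
  set W := a * b * w * (a * b)⁻¹ with hW
  have e1 : u * Z * u⁻¹ = x * Z := by
    rw [hxe]
    unfold pi
    rw [← hZ]
    group
  have e2 : u * W * u⁻¹ = pi a b u w * W := by
    unfold pi
    rw [← hW]
    group
  have hui := h.sq' hu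
  have h11 := h.comm hx hxD h7 h8
  have h12 := h.ab' _ h7 _ h1
  -- conjugate of `Z` by `[u, v']`
  have e3 : u * v' * u⁻¹ * v'⁻¹ * Z * (u * v' * u⁻¹ * v'⁻¹)⁻¹ = pi a b u w * (W * Z) := by
    have e4 : v'⁻¹ * Z * v' = Z := by
      rw [mul_assoc, ← h5]; group
    have e5 : u⁻¹ * Z * u = x * Z := by rw [← e1, hui]
    have e6 : v' * Z * v'⁻¹ = Z := by rw [h5]; group
    calc u * v' * u⁻¹ * v'⁻¹ * Z * (u * v' * u⁻¹ * v'⁻¹)⁻¹
        = u * (v' * (u⁻¹ * (v'⁻¹ * Z * v') * u) * v'⁻¹) * u⁻¹ := by group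
      _ = u * (v' * (x * Z) * v'⁻¹) * u⁻¹ := by rw [e4, e5]
      _ = u * ((v' * x * v'⁻¹) * (v' * Z * v'⁻¹)) * u⁻¹ := by group
      _ = u * (W * x * Z) * u⁻¹ := by rw [h6, e6]
      _ = (u * W * u⁻¹) * (u * x * u⁻¹) * (u * Z * u⁻¹) := by group
      _ = pi a b u w * W * x * (x * Z) := by
          have e7 : u * x * u⁻¹ = x := by rw [h.ab u hu x hx]; group
          rw [e1, e2, e7]
      _ = pi a b u w * (W * (x * x) * Z) := by group
      _ = pi a b u w * (W * Z) := by rw [h.sq x hx, mul_one]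
  rw [e3] at hdm
  refine h.inf _ h9 ?_
  have e8 : pi a b u w = pi a b u w * (W * Z) * (W * Z)⁻¹ := by group
  rw [e8]
  exact mul_mem hdm (inv_mem (mul_mem h7 h1))

/-- `pi u` is idempotent. -/
theorem idem {u v y : G} (hu : u ∈ U) (hv : v ∈ U)
    (hd : u * (a * b * v * (a * b)⁻¹) * u⁻¹ * (a * b * v * (a * b)⁻¹)⁻¹ ∈ D)
    (hd' : v * (a * b * u * (a * b)⁻¹) * v⁻¹ * (a * b * u * (a * b)⁻¹)⁻¹ ∈ D)
    (huv : u * v * a⁻¹ ∈ D) (hy : y ∈ U) (hyD : y ∈ D) : pi a b u (pi a b u y) = pi a b u y := by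
  have hg : ∀ {x : G}, x ∈ U → x ∈ D → pi a b v x = pi a b u x * x := by
    intro x hx hxD
    have h1 := h.pi_congr (mul_mem hu hv) h.aU huv hx hxD
    rw [h.mul_pi hu hv hxD, h.pi_a hx hxD] at h1
    have h2 := h.sq _ (h.pi_mem (u := u) hu hxD).1
    calc pi a b v x = (pi a b u x * pi a b u x) * pi a b v x := by rw [h2, one_mul]
      _ = pi a b u x * (pi a b u x * pi a b v x) := by group
      _ = pi a b u x * x := by rw [h1]
  obtain ⟨m1, d1⟩ := h.pi_mem (u := u) hu hyD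
  obtain ⟨m2, d2⟩ := h.pi_mem (u := u) hu d1
  obtain ⟨m3, d3⟩ := h.pi_mem (u := u) hu d2
  have k1 := h.key hu hv hd hy hyD
  rw [hg m1 d1, h.pi_mul hu m2 d2 m1 d1] at k1
  have k2 := h.key hv hu hd' hy hyD
  rw [hg hy hyD, h.pi_mul hu m1 d1 hy hyD, hg (mul_mem m2 m1) (mul_mem d2 d1),
    h.pi_mul hu m2 d2 m1 d1] at k2
  -- `k1 : f³ f² = 1`, `k2 : f³ f² (f² f) = 1`
  rw [k1, one_mul] at k2
  have h3 : pi a b u (pi a b u y) = (pi a b u y)⁻¹ := mul_eq_one_iff_eq_inv.1 k2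
  rw [h3, h.sq' m1]

/-- Orthogonality. -/
theorem orth {u v : G} (hu : u ∈ U) (hv : v ∈ U)
    (hd : u * (a * b * v * (a * b)⁻¹) * u⁻¹ * (a * b * v * (a * b)⁻¹)⁻¹ ∈ D)
    (iu : ∀ y, y ∈ U → y ∈ D → pi a b u (pi a b u y) = pi a b u y)
    (iv : ∀ y, y ∈ U → y ∈ D → pi a b v (pi a b v y) = pi a b v y)
    (iuv : ∀ y, y ∈ U → y ∈ D → pi a b (u * v) (pi a b (u * v) y) = pi a b (u * v) y)
    {y : G} (hy : y ∈ U) (hyD : y ∈ D) : pi a b u (pi a b v y) = 1 := by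
  have hc : ∀ x, x ∈ U → x ∈ D → pi a b u (pi a b v x) = pi a b v (pi a b u x) := by
    intro x hx hxD
    have h1 := iuv x hx hxD
    obtain ⟨m1, d1⟩ := h.pi_mem (u := u) hu hxD
    obtain ⟨m2, d2⟩ := h.pi_mem (u := v) hv hxD
    obtain ⟨m3, d3⟩ := h.pi_mem (u := u) hu d2
    obtain ⟨m4, d4⟩ := h.pi_mem (u := v) hv d1
    rw [h.mul_pi hu hv hxD, h.mul_pi hu hv (mul_mem d1 d2), h.pi_mul hu m1 d1 m2 d2,
      h.pi_mul hv m1 d1 m2 d2, iu x hx hxD, iv x hx hxD] at h1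
    -- `f * fg * (gf * g) = f * g`
    have h2 : pi a b u (pi a b v x) * pi a b v (pi a b u x) = 1 := by
      calc pi a b u (pi a b v x) * pi a b v (pi a b u x)
          = (pi a b u x)⁻¹ * (pi a b u x * pi a b u (pi a b v x) *
            (pi a b v (pi a b u x) * pi a b v x)) * (pi a b v x)⁻¹ := by group
        _ = (pi a b u x)⁻¹ * (pi a b u x * pi a b v x) * (pi a b v x)⁻¹ := by rw [h1]
        _ = 1 := by group
    have h4 : pi a b u (pi a b v x) = (pi a b v (pi a b u x))⁻¹ := mul_eq_one_iff_eq_inv.1 h2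
    rw [h4, h.sq' m4]
  obtain ⟨m2, d2⟩ := h.pi_mem (u := v) hv hyD
  have h1 := h.key hu hv hd hy hyD
  rw [← hc y hy hyD, iu _ m2 d2] at h1
  exact h1

end Co

end Cfsg.Agent.Omega.NOThreeL.ATwo

end

-- merged: Cfsg.Agent.Mrg.Omega.NOThreeL.ATwo.Exact
section

/-!
# NO-3L A2, `q = 2` (text #14933 (1)–(3), helper850)

`M : NatK F S P (zl S P) ⊥ k`, `V = zl S P`, `|F| = 2`, `z` the element of `V` with coordinates `![1, 0]`; `U ≤ S`
elementary abelian, normalised by `C_G(z)`, induces all upper unitriangular elements of `SL₂(F)^k` on `V`; every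
nontrivial `S`-invariant subgroup of `U` contains `z`.

* `Cfg.inf_eq` : `U ∩ U^w = 1` for `w ∈ P` with `z^w` opposite to `z`;
* `Cfg.co` : the pair `U`, `U^w` over `C_G(V)`;
* `Cfg.val` : for `y ∈ C_U(V)` with `pi (u i) y = y` (`u i ∈ U` moves only the `i`-th factor) and every `u ∈ U`
  acting as `up b` : `pi u y = y` if `b i = 1` and `pi u y = 1` if `b i = 0`;
* `Cfg.prod` : every `y ∈ C_U(V)` is the product of its components `pi (u i) y`.
-/

set_option autoImplicit false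
set_option Elab.async false

namespace Cfsg.Agent.Omega.NOThreeL.ATwo

open Subgroup Cfsg Cfsg.Agent.ZN Cfsg.Agent.ZN.ChoiceBase
open Cfsg.Agent.Omega.MinPar Cfsg.Agent.Omega.FFThm
open Cfsg.Agent.MinSimple.VModule (le_normalizer_zl)
open Cfsg.Agent.Lib.SL2Mat
open Cfsg.Agent.Omega.NatPair (ap ap_mul ap_one ap_inv_ap ap_ap_inv exists_ap ap_add)
open Cfsg.Agent.Omega.IId (Ind cj_mem cj_mem' e_inj acts_mul acts_inv acts_one sg sg_spec e_one e_inv)

universe u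

variable {G : Type u} [Group G] {F : Type} [Field F] {S P : Subgroup G} {k : ℕ}

structure Cfg (M : NatK F S P (zl S P) ⊥ k) (z : G) (U : Subgroup G) : Prop where
  two : ∀ x : F, x = 0 ∨ x = 1
  pos : 0 < k
  SP : S ≤ P
  zV : z ∈ zl S P
  ez : ∀ i, M.e z i = ![1, 0]
  ind : Ind M U Set.univ
  UP : U ≤ P
  cent : ∀ g, g * z = z * g → g ∈ normalizer (U : Set G)
  ab : ∀ u ∈ U, ∀ v ∈ U, u * v = v * u
  sq : ∀ u ∈ U, u * u = 1
  core : ∀ T : Subgroup G, T ≤ U → S ≤ normalizer (T : Set G) → T ≠ ⊥ → z ∈ T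

section mat

variable [CharP F 2]

theorem wm_up (c : F) : wm (1 : F) one_ne_zero * up c * (wm (1 : F) one_ne_zero)⁻¹ = lo c := by
  have h2 : (-1 : F) = 1 := CharTwo.neg_eq 1
  rw [ent_inv]
  refine ext_ent ?_ ?_ ?_ ?_ <;> simp only [ent_mul, wm_00, wm_01, wm_10, wm_11, up_00, up_01, up_10, up_11,
    lo_00, lo_01, lo_10, lo_11, mk_00, mk_01, mk_10, mk_11, inv_one, h2] <;> ring_nf
  all_goals simp [h2]

theorem rho_up (c : F) : up (1 : F) * lo (1 : F) * up c * (up (1 : F) * lo (1 : F))⁻¹ = lo c := by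
  have h2 : (1 : F) + 1 = 0 := CharTwo.add_self_eq_zero 1
  rw [ent_inv]
  refine ext_ent ?_ ?_ ?_ ?_ <;> simp only [ent_mul, up_00, up_01, up_10, up_11,
    lo_00, lo_01, lo_10, lo_11, mk_00, mk_01, mk_10, mk_11]
  · linear_combination (-(c : F)) * h2
  · linear_combination (2 * c : F) * h2
  · linear_combination (-(c : F)) * h2
  · linear_combination (c : F) * h2

end mat

variable {M : NatK F S P (zl S P) ⊥ k}

theorem mem_cent_of_acts {g : G} (hg : g ∈ P) (h : ActsSL M.e (zl S P) ⊥ g 1) :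
    g ∈ centralizer (zl S P : Set G) := by
  rw [mem_centralizer_iff]
  intro v hv
  have h1 : g * v * g⁻¹ = v := by
    refine e_inj M (cj_mem hg hv) hv (funext fun i => ?_)
    rw [h.1 v hv i, Pi.one_apply, ap_one]
  calc v * g = g * v * g⁻¹ * g := by rw [h1]
    _ = g * v := by group

theorem acts_conj {g h : G} (hg : g ∈ P) (hh : h ∈ P) {A B : Fin k → Matrix.SpecialLinearGroup (Fin 2) F}
    (h1 : ActsSL M.e (zl S P) ⊥ g A) (h2 : ActsSL M.e (zl S P) ⊥ h B) :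
    ActsSL M.e (zl S P) ⊥ (g * h * g⁻¹) (A * B * A⁻¹) :=
  acts_mul (inv_mem hg) (acts_mul hh h1 h2) (acts_inv hg h1)

/-- Elements acting in the same way. -/
theorem mem_cent_of_eq {g h : G} (hg : g ∈ P) (hh : h ∈ P) {A : Fin k → Matrix.SpecialLinearGroup (Fin 2) F}
    (h1 : ActsSL M.e (zl S P) ⊥ g A) (h2 : ActsSL M.e (zl S P) ⊥ h A) :
    g * h⁻¹ ∈ centralizer (zl S P : Set G) := by
  refine mem_cent_of_acts (M := M) (mul_mem hg (inv_mem hh)) ?_
  have h3 := acts_mul (inv_mem hh) h1 (acts_inv hh h2)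
  rwa [mul_inv_cancel] at h3

/-- The cyclic permutation of the three lines is transitive on the pairs. -/
theorem acts_eq (M : NatK F S P (zl S P) ⊥ k) {g h v w : G} (hg : g ∈ P) (hh : h ∈ P) (hv : v ∈ zl S P) (hw : w ∈ zl S P)
    {A B : Fin k → Matrix.SpecialLinearGroup (Fin 2) F}
    (h1 : ActsSL M.e (zl S P) ⊥ g A) (h2 : ActsSL M.e (zl S P) ⊥ h B)
    (he : ∀ i, ap (A i) (M.e v i) = ap (B i) (M.e w i)) : g * v * g⁻¹ = h * w * h⁻¹ := by
  refine e_inj M (cj_mem hg hv) (cj_mem hh hw) (funext fun i => ?_)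
  rw [h1.1 v hv i, h2.1 w hw i, he i]

namespace Cfg

variable {z : G} {U : Subgroup G} (h : Cfg M z U)
include h

/-- `C_G(V) ≤ N_G(U^g)` for `g ∈ P`. -/
theorem cent_conj {g d x : G} (hg : g ∈ P) (hd : d ∈ centralizer (zl S P : Set G)) (hx : x ∈ cj g U) :
    d * x * d⁻¹ ∈ cj g U := by
  rw [mem_cj] at hx ⊢
  have h1 : g⁻¹ * d * g * z = z * (g⁻¹ * d * g) := by
    have h2 := mem_centralizer_iff.1 hd _ (cj_mem hg h.zV)
    calc g⁻¹ * d * g * z = g⁻¹ * (d * (g * z * g⁻¹)) * g := by group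
      _ = g⁻¹ * ((g * z * g⁻¹) * d) * g := by rw [h2]
      _ = z * (g⁻¹ * d * g) := by group
  have h3 := (mem_normalizer_iff.1 (h.cent _ h1) _).1 hx
  have e : g⁻¹ * (d * x * d⁻¹) * g = g⁻¹ * d * g * (g⁻¹ * x * g) * (g⁻¹ * d * g)⁻¹ := by group
  rwa [e]

omit h in
theorem cent_norm {g d : G} (hg : g ∈ P) (hd : d ∈ centralizer (zl S P : Set G)) :
    g * d * g⁻¹ ∈ centralizer (zl S P : Set G) := by
  rw [mem_centralizer_iff] at hd ⊢
  intro v hv
  have h1 := hd _ (cj_mem' hg hv)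
  calc v * (g * d * g⁻¹) = g * ((g⁻¹ * v * g) * d) * g⁻¹ := by group
    _ = g * (d * (g⁻¹ * v * g)) * g⁻¹ := by rw [h1]
    _ = g * d * g⁻¹ * v := by group

theorem cj_congr {g x : G} (he : g * z * g⁻¹ = x * z * x⁻¹) : cj g U = cj x U := by
  have h1 : x⁻¹ * g * z = z * (x⁻¹ * g) := by
    calc x⁻¹ * g * z = x⁻¹ * (g * z * g⁻¹) * g := by group
      _ = x⁻¹ * (x * z * x⁻¹) * g := by rw [he]
      _ = z * (x⁻¹ * g) := by group
  have h2 := cj_eq_of_mem_normalizer (h.cent _ h1)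
  rw [← cj_cj] at h2
  have h3 := congrArg (cj x) h2
  rwa [cj_cj_inv] at h3

variable [CharP F 2]

theorem exists_up (b : Fin k → F) : ∃ u ∈ U, ActsSL M.e (zl S P) ⊥ u fun i => up (b i) :=
  h.ind.ex b fun _ hi => (hi (Set.mem_univ _)).elim

theorem exists_b {u : G} (hu : u ∈ U) : ∃ b : Fin k → F, ActsSL M.e (zl S P) ⊥ u fun i => up (b i) := by
  obtain ⟨b, -, hb⟩ := h.ind.act u hu
  exact ⟨b, hb⟩

/-- Every `P`-conjugate of `z` is conjugate to `z` under `⟨U, U^w⟩`. -/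
theorem exists_x {w g : G} (hw : w ∈ P)
    (hwA : ActsSL M.e (zl S P) ⊥ w fun _ => wm (1 : F) one_ne_zero) (hg : g ∈ P) :
    ∃ u ∈ U, ∃ v ∈ U, g * z * g⁻¹ = (u * (w * v * w⁻¹)) * z * (u * (w * v * w⁻¹))⁻¹ := by
  obtain ⟨v, hv, hvA⟩ := h.exists_up fun i => M.e (g * z * g⁻¹) i 1
  obtain ⟨u, hu, huA⟩ := h.exists_up fun i => 1 + M.e (g * z * g⁻¹) i 0
  refine ⟨u, hu, v, hv, ?_⟩
  have h1 := acts_conj hw (h.UP hv) hwA hvA
  have h2 := acts_mul (mul_mem (mul_mem hw (h.UP hv)) (inv_mem hw)) huA h1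
  have hx : u * (w * v * w⁻¹) ∈ P := mul_mem (h.UP hu) (mul_mem (mul_mem hw (h.UP hv)) (inv_mem hw))
  refine e_inj M (cj_mem hg h.zV) (cj_mem hx h.zV) (funext fun i => ?_)
  rw [h2.1 z h.zV i, h.ez i, Pi.mul_apply, Pi.mul_apply, Pi.mul_apply, Pi.inv_apply, wm_up]
  have hne : M.e (g * z * g⁻¹) i ≠ 0 := by
    obtain ⟨j, rfl⟩ := (sg M hg).surjective i
    intro h0
    have h3 := (sg_spec M hg h.zV j).1 h0
    rw [h.ez j] at h3
    have := congrFun h3 0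
    simp at this
  set x := M.e (g * z * g⁻¹) i with hx'
  have h22 : (1 : F) + 1 = 0 := CharTwo.add_self_eq_zero 1
  rw [ap_mul]
  apply NatPair.ext2
  · rw [NatPair.ap_zero', NatPair.ap_zero', NatPair.ap_one']
    simp only [up_00, up_01, lo_00, lo_01, lo_10, lo_11, Matrix.cons_val_zero, Matrix.cons_val_one]
    rcases h.two (x 1) with h1 | h1 <;> rcases h.two (x 0) with h0 | h0
    · exact absurd (NatPair.ext2 h0 h1) hne
    · rw [h0, h1]; ring
    · rw [h0, h1]; linear_combination -h22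
    · rw [h0, h1]; linear_combination -h22
  · rw [NatPair.ap_one', NatPair.ap_zero', NatPair.ap_one']
    simp only [up_10, up_11, lo_00, lo_01, lo_10, lo_11, Matrix.cons_val_zero, Matrix.cons_val_one]
    ring

/-- **(1)** `U ∩ U^w = 1`. -/
theorem inf_eq {w : G} (hw : w ∈ P) (hwA : ActsSL M.e (zl S P) ⊥ w fun _ => wm (1 : F) one_ne_zero) :
    U ⊓ cj w U = ⊥ := by
  -- `T ≤ U^g` for all `g ∈ P`
  have key : ∀ g ∈ P, U ⊓ cj w U ≤ cj g U := by
    intro g hg t ht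
    rw [mem_inf] at ht
    obtain ⟨u, hu, v, hv, he⟩ := h.exists_x hw hwA hg
    rw [h.cj_congr he, mem_cj]
    have ht2 := mem_cj.1 ht.2
    have e1 : (u * (w * v * w⁻¹))⁻¹ * t * (u * (w * v * w⁻¹)) = t := by
      have h1 := h.ab u hu t ht.1
      have h2 := h.ab v hv _ ht2
      calc (u * (w * v * w⁻¹))⁻¹ * t * (u * (w * v * w⁻¹))
          = w * v⁻¹ * w⁻¹ * u⁻¹ * (t * u) * (w * v * w⁻¹) := by group
        _ = w * v⁻¹ * w⁻¹ * u⁻¹ * (u * t) * (w * v * w⁻¹) := by rw [h1]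
        _ = w * v⁻¹ * ((w⁻¹ * t * w) * v) * w⁻¹ := by group
        _ = w * v⁻¹ * (v * (w⁻¹ * t * w)) * w⁻¹ := by rw [h2]
        _ = t := by group
    rw [e1]
    exact ht.1
  by_contra hne
  have hS : S ≤ normalizer ((U ⊓ cj w U : Subgroup G) : Set G) := by
    have k1 : ∀ s ∈ S, ∀ t ∈ U ⊓ cj w U, s * t * s⁻¹ ∈ U ⊓ cj w U := by
      intro s hs t ht
      rw [mem_inf]
      constructor
      · have h1 := key s⁻¹ (inv_mem (h.SP hs)) ht
        rw [mem_cj, inv_inv] at h1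
        exact h1
      · have h1 := key (s⁻¹ * w) (mul_mem (inv_mem (h.SP hs)) hw) ht
        rw [mem_cj] at h1 ⊢
        have e : w⁻¹ * (s * t * s⁻¹) * w = (s⁻¹ * w)⁻¹ * t * (s⁻¹ * w) := by group
        rwa [e]
    intro s hs
    rw [mem_normalizer_iff]
    intro t
    refine ⟨k1 s hs t, fun ht => ?_⟩
    have h1 := k1 s⁻¹ (inv_mem hs) _ ht
    have e : s⁻¹ * (s * t * s⁻¹) * s⁻¹⁻¹ = t := by group
    rwa [e] at h1
  have hz := (mem_inf.1 (h.core _ inf_le_left hS hne)).2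
  rw [mem_cj] at hz
  obtain ⟨v, hv, hvA⟩ := h.exists_up fun _ => 1
  have h1 := acts_conj hw (h.UP hv) hwA hvA
  have h2 := h.ab v hv _ hz
  have h3 : w * v * w⁻¹ * z * (w * v * w⁻¹)⁻¹ = z := by
    calc w * v * w⁻¹ * z * (w * v * w⁻¹)⁻¹ = w * (v * (w⁻¹ * z * w)) * v⁻¹ * w⁻¹ := by group
      _ = w * ((w⁻¹ * z * w) * v) * v⁻¹ * w⁻¹ := by rw [h2]
      _ = z := by group
  have i0 : Fin k := ⟨0, h.pos⟩
  have h4 := h1.1 z h.zV i0
  rw [h3, h.ez i0, Pi.mul_apply, Pi.mul_apply, Pi.inv_apply, wm_up] at h4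
  have h5 := congrFun h4 1
  rw [NatPair.ap_one'] at h5
  simp at h5

/-- The pair `U`, `U^w`. -/
theorem exists_co : ∃ (a b : G) (U' : Subgroup G), Co U U' (centralizer (zl S P : Set G)) a b ∧ a ∈ P ∧ b ∈ P ∧
    U' ≤ P ∧
    (ActsSL M.e (zl S P) ⊥ a fun _ => up 1) ∧ (ActsSL M.e (zl S P) ⊥ b fun _ => lo 1) := by
  obtain ⟨w, hw, hwA⟩ := M.lift fun _ => wm (1 : F) one_ne_zero
  obtain ⟨a, ha, haA⟩ := h.exists_up fun _ => 1
  have hb : w * a * w⁻¹ ∈ P := mul_mem (mul_mem hw (h.UP ha)) (inv_mem hw)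
  have hbA : ActsSL M.e (zl S P) ⊥ (w * a * w⁻¹) fun _ => lo 1 := by
    have h1 := acts_conj hw (h.UP ha) hwA haA
    have h2 : ((fun _ => wm (1 : F) one_ne_zero) * (fun _ => up 1) * (fun _ => wm (1 : F) one_ne_zero)⁻¹ :
        Fin k → Matrix.SpecialLinearGroup (Fin 2) F) = fun _ => lo 1 := by
      funext i
      rw [Pi.mul_apply, Pi.mul_apply, Pi.inv_apply, wm_up]
    rwa [h2] at h1
  have hU'P : cj w U ≤ P := by
    intro x hx
    rw [mem_cj] at hx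
    have e : x = w * (w⁻¹ * x * w) * w⁻¹ := by group
    rw [e]
    exact mul_mem (mul_mem hw (h.UP hx)) (inv_mem hw)
  have hρ : cj (a * (w * a * w⁻¹)) U = cj w U := by
    refine h.cj_congr (acts_eq M (mul_mem (h.UP ha) hb) hw h.zV h.zV (acts_mul hb haA hbA) hwA fun i => ?_)
    rw [Pi.mul_apply, h.ez i]
    have h22 : (1 : F) + 1 = 0 := CharTwo.add_self_eq_zero 1
    have h2 : (-1 : F) = 1 := CharTwo.neg_eq 1
    apply NatPair.ext2
    · rw [NatPair.ap_zero', NatPair.ap_zero', ent_mul, ent_mul]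
      simp [h22]
    · rw [NatPair.ap_one', NatPair.ap_one', ent_mul, ent_mul]
      simp [h2]
  refine ⟨a, w * a * w⁻¹, cj w U, ?_, h.UP ha, hb, hU'P, haA, hbA⟩
  exact
    { aU := ha
      bU := by
        rw [mem_cj]
        have e : w⁻¹ * (w * a * w⁻¹) * w = a := by group
        rwa [e]
      ab := h.ab
      ab' := by
        intro u hu v hv
        rw [mem_cj] at hu hv
        have h1 := h.ab _ hu _ hv
        calc u * v = w * ((w⁻¹ * u * w) * (w⁻¹ * v * w)) * w⁻¹ := by group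
          _ = w * ((w⁻¹ * v * w) * (w⁻¹ * u * w)) * w⁻¹ := by rw [h1]
          _ = v * u := by group
      sq := h.sq
      inf := by
        intro x hx hx'
        have h1 : x ∈ U ⊓ cj w U := ⟨hx, hx'⟩
        rwa [h.inf_eq hw hwA, mem_bot] at h1
      DU := by
        intro d hd u hu
        have h1 := h.cent_conj (one_mem P) hd (x := u) (by rwa [cj_one])
        rwa [cj_one] at h1
      DU' := fun d hd u hu => h.cent_conj hw hd hu
      UD := fun u hu d hd => cent_norm (h.UP hu) hd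
      UD' := fun u hu d hd => cent_norm (hU'P hu) hd
      rho := by
        intro u hu
        rw [← hρ, mem_cj]
        have e : (a * (w * a * w⁻¹))⁻¹ * (a * (w * a * w⁻¹) * u * (a * (w * a * w⁻¹))⁻¹) *
          (a * (w * a * w⁻¹)) = u := by group
        rwa [e] }

end Cfg

end Cfsg.Agent.Omega.NOThreeL.ATwo

end

-- merged: Cfsg.Agent.Mrg.Omega.NOThreeL.ATwo.Comp
section

/-!
# NO-3L A2, `q = 2` (text #14933 (2), (3), helper850): the components of `Y = C_U(V)`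

`h : Cfg M z U`. `Up M u b` : `u` acts on `V` as `up (b i)` on the `i`-th factor.

* `Comps` : the data `a b U'` of the pair and its consequences;
* `Comps.idem`, `Comps.orth` : `pi u` is idempotent for `u ∈ U`, `pi u (pi v y) = 1` for `u`, `v` with disjoint supports;
* `Comps.val` : for `y ∈ Y`, `pi (u i) y = y`, and `u ∈ U` acting as `up b`: `pi u y = y` if `b i = 1`, `1` if `b i = 0`;
* `Comps.gen` : a subgroup containing all components `pi (u i) y` of `y ∈ Y` contains `y`.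
-/

set_option autoImplicit false
set_option Elab.async false

namespace Cfsg.Agent.Omega.NOThreeL.ATwo

open Subgroup Cfsg Cfsg.Agent.ZN Cfsg.Agent.ZN.ChoiceBase
open Cfsg.Agent.Omega.MinPar Cfsg.Agent.Omega.FFThm
open Cfsg.Agent.MinSimple.VModule (le_normalizer_zl)
open Cfsg.Agent.Lib.SL2Mat
open Cfsg.Agent.Omega.NatPair (ap ap_mul ap_one ap_inv_ap ap_ap_inv exists_ap ap_add)
open Cfsg.Agent.Omega.IId (Ind cj_mem cj_mem' e_inj acts_mul acts_inv acts_one sg sg_spec e_one e_inv)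

universe u

variable {G : Type u} [Group G] {F : Type} [Field F] {S P : Subgroup G} {k : ℕ}

/-- `u` acts on `V` as `up (b i)` on the `i`-th factor. -/
def Up (M : NatK F S P (zl S P) ⊥ k) (u : G) (b : Fin k → F) : Prop :=
  ActsSL M.e (zl S P) ⊥ u fun i => up (b i)

/-- The pair of `U` and its opposite. -/
structure Comps (M : NatK F S P (zl S P) ⊥ k) (z : G) (U U' : Subgroup G) (a b : G) : Prop extends
    Cfg M z U where
  co : Co U U' (centralizer (zl S P : Set G)) a b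
  aP : a ∈ P
  bP : b ∈ P
  UP' : U' ≤ P
  aA : ActsSL M.e (zl S P) ⊥ a fun _ => up 1
  bA : ActsSL M.e (zl S P) ⊥ b fun _ => lo 1

theorem Cfg.exists_comps [CharP F 2] {M : NatK F S P (zl S P) ⊥ k} {z : G} {U : Subgroup G} (h : Cfg M z U) :
    ∃ (a b : G) (U' : Subgroup G), Comps M z U U' a b := by
  obtain ⟨a, b, U', h1, h2, h3, h4, h5, h6⟩ := h.exists_co
  exact ⟨a, b, U', ⟨h, h1, h2, h3, h4, h5, h6⟩⟩

variable {M : NatK F S P (zl S P) ⊥ k}

theorem Up.mul {u v : G} {b c : Fin k → F} (hv : v ∈ P) (h1 : Up M u b) (h2 : Up M v c) :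
    Up M (u * v) (b + c) := by
  have h3 := acts_mul hv h1 h2
  have e : ((fun i => up (b i)) * (fun i => up (c i)) : Fin k → Matrix.SpecialLinearGroup (Fin 2) F) =
      fun i => up ((b + c) i) := by
    funext i
    rw [Pi.mul_apply, up_mul, Pi.add_apply]
  rw [e] at h3
  exact h3

theorem Up.inv {u : G} {b : Fin k → F} (hu : u ∈ P) (h1 : Up M u b) : Up M u⁻¹ (-b) := by
  have h3 := acts_inv hu h1
  have e : ((fun i => up (b i))⁻¹ : Fin k → Matrix.SpecialLinearGroup (Fin 2) F) =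
      fun i => up ((-b) i) := by
    funext i
    rw [Pi.inv_apply, up_inv, Pi.neg_apply]
  rw [e] at h3
  exact h3

theorem Up.congr {u v : G} {b : Fin k → F} (hu : u ∈ P) (hv : v ∈ P) (h1 : Up M u b) (h2 : Up M v b) :
    u * v⁻¹ ∈ centralizer (zl S P : Set G) := mem_cent_of_eq hu hv h1 h2

theorem Up.cent {u : G} (hu : u ∈ P) (h1 : Up M u 0) : u ∈ centralizer (zl S P : Set G) := by
  refine mem_cent_of_acts (M := M) hu ?_
  have e : (fun i => up ((0 : Fin k → F) i)) = (1 : Fin k → Matrix.SpecialLinearGroup (Fin 2) F) := by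
    funext i
    rw [Pi.zero_apply, up_zero, Pi.one_apply]
  have h2 : ActsSL M.e (zl S P) ⊥ u fun i => up ((0 : Fin k → F) i) := h1
  rwa [e] at h2

/-- the coordinates `b` are determined by `u` -/
theorem Up.eq {u : G} {b c : Fin k → F} (h1 : Up M u b) (h2 : Up M u c) : b = c := by
  obtain ⟨v, hv, he⟩ := M.surj fun _ => ![0, 1]
  funext i
  have e1 := h1.1 v hv i
  rw [h2.1 v hv i, he] at e1
  have e2 := congrFun e1 0
  rw [NatPair.ap_zero', NatPair.ap_zero'] at e2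
  simp at e2
  exact e2.symm

theorem up_of_cent {u : G} (hu : u ∈ centralizer (zl S P : Set G)) : Up M u 0 := by
  refine ⟨fun v hv i => ?_, fun d hd => ?_⟩
  · have h1 := mem_centralizer_iff.1 hu v hv
    have h2 : u * v * u⁻¹ = v := by rw [← h1]; group
    rw [h2]
    change _ = ap (up 0) _
    rw [up_zero, ap_one]
  · rw [mem_bot] at hd
    rw [hd]
    group

namespace Comps

variable [CharP F 2] {z a b : G} {U U' : Subgroup G} (h : Comps M z U U' a b)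
include h

theorem rhoP : a * b ∈ P := mul_mem h.aP h.bP

theorem rho_acts : ActsSL M.e (zl S P) ⊥ (a * b) fun _ => up 1 * lo 1 := by
  have := acts_mul h.bP h.aA h.bA
  exact this

/-- `v^ρ` acts as `lo c` if `v` acts as `up c`. -/
theorem rho_lo {v : G} {c : Fin k → F} (hv : v ∈ P) (hc : Up M v c) :
    ActsSL M.e (zl S P) ⊥ (a * b * v * (a * b)⁻¹) fun i => lo (c i) := by
  have h1 := acts_conj h.rhoP hv h.rho_acts hc
  have e : ((fun _ => up 1 * lo 1) * (fun i => up (c i)) * (fun _ => up 1 * lo 1)⁻¹ :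
      Fin k → Matrix.SpecialLinearGroup (Fin 2) F) = fun i => lo (c i) := by
    funext i
    rw [Pi.mul_apply, Pi.mul_apply, Pi.inv_apply, rho_up]
  rwa [e] at h1

/-- `[u, v^ρ] ∈ C_G(V)` for disjoint supports. -/
theorem disj {u v : G} {β γ : Fin k → F} (hu : u ∈ P) (hv : v ∈ P) (h1 : Up M u β) (h2 : Up M v γ)
    (hd : ∀ i, β i = 0 ∨ γ i = 0) :
    u * (a * b * v * (a * b)⁻¹) * u⁻¹ * (a * b * v * (a * b)⁻¹)⁻¹ ∈ centralizer (zl S P : Set G) := by
  have h3 := h.rho_lo hv h2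
  have hv' : a * b * v * (a * b)⁻¹ ∈ P := mul_mem (mul_mem h.rhoP hv) (inv_mem h.rhoP)
  refine mem_cent_of_acts (M := M) (mul_mem (mul_mem (mul_mem hu hv') (inv_mem hu)) (inv_mem hv')) ?_
  have h4 := acts_mul (inv_mem hv') (acts_mul (inv_mem hu) (acts_mul hv' h1 h3) (acts_inv hu h1))
    (acts_inv hv' h3)
  have e : ((fun i => up (β i)) * (fun i => lo (γ i)) * (fun i => up (β i))⁻¹ * (fun i => lo (γ i))⁻¹ :
      Fin k → Matrix.SpecialLinearGroup (Fin 2) F) = 1 := by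
    funext i
    rw [Pi.mul_apply, Pi.mul_apply, Pi.mul_apply, Pi.inv_apply, Pi.inv_apply, Pi.one_apply]
    rcases hd i with h0 | h0
    · rw [h0, up_zero]; group
    · rw [h0, lo_zero]; group
  rwa [e] at h4

theorem idem {u y : G} (hu : u ∈ U) (hy : y ∈ U) (hyD : y ∈ centralizer (zl S P : Set G)) :
    pi a b u (pi a b u y) = pi a b u y := by
  obtain ⟨β, hβ⟩ := h.exists_b hu
  obtain ⟨v, hv, hvA⟩ := h.exists_up (1 + β)
  have h2 : (1 : F) + 1 = 0 := CharTwo.add_self_eq_zero 1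
  have hd : ∀ i, β i = 0 ∨ (1 + β) i = 0 := by
    intro i
    rcases h.two (β i) with h0 | h0
    · exact Or.inl h0
    · right
      rw [Pi.add_apply, Pi.one_apply, h0, h2]
  have hd' : ∀ i, (1 + β) i = 0 ∨ β i = 0 := fun i => (hd i).symm
  refine h.co.idem hu hv (h.disj (h.UP hu) (h.UP hv) hβ hvA hd) (h.disj (h.UP hv) (h.UP hu) hvA hβ hd') ?_ hy hyD
  refine Up.congr (M := M) (b := β + (1 + β)) (mul_mem (h.UP hu) (h.UP hv)) h.aP (Up.mul (h.UP hv) hβ hvA) ?_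
  have e : β + (1 + β) = 1 := by
    funext i
    rw [Pi.add_apply, Pi.add_apply, Pi.one_apply]
    linear_combination (β i) * h2
  rw [e]
  exact h.aA

theorem orth {u v y : G} {β γ : Fin k → F} (hu : u ∈ U) (hv : v ∈ U) (h1 : Up M u β) (h2 : Up M v γ)
    (hd : ∀ i, β i = 0 ∨ γ i = 0) (hy : y ∈ U) (hyD : y ∈ centralizer (zl S P : Set G)) :
    pi a b u (pi a b v y) = 1 :=
  h.co.orth hu hv (h.disj (h.UP hu) (h.UP hv) h1 h2 hd) (fun _ hx hxD => h.idem hu hx hxD)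
    (fun _ hx hxD => h.idem hv hx hxD) (fun _ hx hxD => h.idem (mul_mem hu hv) hx hxD) hy hyD

open Classical in
/-- **(3)** the value of `pi u` on a component. -/
theorem val {u v y : G} {β : Fin k → F} {i : Fin k} (hu : u ∈ U) (hv : v ∈ U) (h1 : Up M u β)
    (h2 : Up M v (Pi.single i 1)) (hy : y ∈ U) (hyD : y ∈ centralizer (zl S P : Set G))
    (he : pi a b v y = y) : pi a b u y = if β i = 0 then 1 else y := by
  have key : ∀ {u : G} {β : Fin k → F}, u ∈ U → Up M u β → β i = 0 → pi a b u y = 1 := by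
    intro u β hu h1 h0
    have h3 := h.orth hu hv h1 h2 (fun j => ?_) hy hyD
    · rwa [he] at h3
    · by_cases hj : j = i
      · rw [hj]; exact Or.inl h0
      · right
        rw [Pi.single_eq_of_ne hj]
  split_ifs with h0
  · exact key hu h1 h0
  · have h3 : β i = 1 := (h.two _).resolve_left h0
    have h4 := key (mul_mem hu hv) (Up.mul (h.UP hv) h1 h2) (by
      rw [Pi.add_apply, Pi.single_eq_same, h3]
      exact CharTwo.add_self_eq_zero 1)
    rw [h.co.mul_pi hu hv hyD, he] at h4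
    have h5 : pi a b u y = y⁻¹ := mul_eq_one_iff_eq_inv.1 h4
    rw [h5, h.co.sq' hy]

open Classical in
/-- Every `y ∈ Y` is the product of its components. -/
theorem gen {y : G} (hy : y ∈ U) (hyD : y ∈ centralizer (zl S P : Set G)) {R : Subgroup G}
    (hR : ∀ (i : Fin k), ∀ v ∈ U, Up M v (Pi.single i 1) → pi a b v y ∈ R) : y ∈ R := by
  have key : ∀ (I : Finset (Fin k)) (u : G) (β : Fin k → F), u ∈ U → Up M u β → (∀ i, i ∉ I → β i = 0) →
      pi a b u y ∈ R := by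
    intro I
    induction I using Finset.induction_on with
    | empty =>
      intro u β hu hβ h0
      have e : β = 0 := funext fun i => h0 i (Finset.notMem_empty i)
      rw [e] at hβ
      rw [h.co.pi_eq_one hu (Up.cent (h.UP hu) hβ) hy hyD]
      exact one_mem _
    | insert i I hi ih =>
      intro u β hu hβ h0
      rcases h.two (β i) with h3 | h3
      · refine ih u β hu hβ fun j hj => ?_
        by_cases hji : j = i
        · rw [hji, h3]
        · exact h0 j fun h4 => (Finset.mem_insert.1 h4).elim hji hj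
      · obtain ⟨v, hv, hvA⟩ := h.exists_up (Pi.single i 1)
        have h4 := ih (u * v) _ (mul_mem hu hv) (Up.mul (h.UP hv) hβ hvA) fun j hj => by
          by_cases hji : j = i
          · rw [hji, Pi.add_apply, Pi.single_eq_same, h3]
            exact CharTwo.add_self_eq_zero 1
          · rw [Pi.add_apply, Pi.single_eq_of_ne hji, add_zero]
            exact h0 j fun h4 => (Finset.mem_insert.1 h4).elim hji hj
        rw [h.co.mul_pi hu hv hyD] at h4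
        have h5 := mul_mem h4 (inv_mem (hR i v hv hvA))
        rwa [mul_inv_cancel_right] at h5
  have h1 := key Finset.univ a 1 h.co.aU h.aA fun i hi => (hi (Finset.mem_univ i)).elim
  rwa [h.co.pi_a hy hyD] at h1

end Comps

end Cfsg.Agent.Omega.NOThreeL.ATwo

end
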