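import Cfsg.Agent.Mrg.Omega.NOThreeL.ATwo.Comp
import Cfsg.Agent.Omega.NOThreeL.ATwo.Fam
import Cfsg.Agent.Mrg.Omega.NOThreeL.Star
import Cfsg.Agent.Mrg.Omega.NOThreeL.Plug
import Cfsg.Agent.PLocal.OffenderStep

-- merged: Cfsg.Agent.Omega.NOThreeL.ATwo.Core2
section

/-!
# NO-3L A2 (text #16411 (2)): commutation of `pi u` and `pi v`

* `Co.pi_comm` : `pi u (pi v y) = pi v (pi u y)` if `[u, v^ρ] ∈ D` and `[v, u^ρ] ∈ D`;
* `Co.orth'` : `pi u (pi v y) = 1` if moreover `pi v` is idempotent.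
-/

set_option autoImplicit false
set_option Elab.async false

namespace Cfsg.Agent.Omega.NOThreeL.ATwo

open Subgroup

universe u

variable {G : Type u} [Group G]

namespace Co

variable {U U' D : Subgroup G} {a b : G} (h : Co U U' D a b)
include h

/-- conjugate of `y^ρ` by `[u, v^ρ]` -/
theorem conj_rho {u v y : G} (hu : u ∈ U) (hv : v ∈ U)
    (hd : u * (a * b * v * (a * b)⁻¹) * u⁻¹ * (a * b * v * (a * b)⁻¹)⁻¹ ∈ D)
    (hy : y ∈ U) (hyD : y ∈ D) :
    u * (a * b * v * (a * b)⁻¹) * u⁻¹ * (a * b * v * (a * b)⁻¹)⁻¹ * (a * b * y * (a * b)⁻¹) *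
      (u * (a * b * v * (a * b)⁻¹) * u⁻¹ * (a * b * v * (a * b)⁻¹)⁻¹)⁻¹ =
      a * b * (pi a b v (pi a b u y) * y) * (a * b)⁻¹ := by
  have hkey := h.key hu hv hd hy hyD
  obtain ⟨h1, h2⟩ := h.rho_Y hy hyD
  obtain ⟨hx, hxD⟩ := h.pi_mem (u := u) hu hyD
  obtain ⟨hw, hwD⟩ := h.pi_mem (u := v) hv hxD
  have h4 := h.rho v hv
  have h5 := h.ab' _ h4 _ h1
  have h6 := h.rho_conj hv hx hxD
  obtain ⟨h7, h8⟩ := h.rho_Y hw hwD
  set Z := a * b * y * (a * b)⁻¹ with hZ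
  set v' := a * b * v * (a * b)⁻¹ with hv'
  set x := pi a b u y with hxe
  set w := pi a b v x with hwe
  set W := a * b * w * (a * b)⁻¹ with hW
  have e1 : u * Z * u⁻¹ = x * Z := by
    rw [hxe]
    unfold pi
    rw [← hZ]
    group
  have e2 : u * W * u⁻¹ = pi a b u w * W := by
    unfold pi
    rw [← hW]
    group
  have hui := h.sq' hu
  have e4 : v'⁻¹ * Z * v' = Z := by
    rw [mul_assoc, ← h5]; group
  have e5 : u⁻¹ * Z * u = x * Z := by rw [← e1, hui]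
  have e6 : v' * Z * v'⁻¹ = Z := by rw [h5]; group
  calc u * v' * u⁻¹ * v'⁻¹ * Z * (u * v' * u⁻¹ * v'⁻¹)⁻¹
      = u * (v' * (u⁻¹ * (v'⁻¹ * Z * v') * u) * v'⁻¹) * u⁻¹ := by group
    _ = u * (v' * (x * Z) * v'⁻¹) * u⁻¹ := by rw [e4, e5]
    _ = u * ((v' * x * v'⁻¹) * (v' * Z * v'⁻¹)) * u⁻¹ := by group
    _ = u * (W * x * Z) * u⁻¹ := by rw [h6, e6]
    _ = (u * W * u⁻¹) * (u * x * u⁻¹) * (u * Z * u⁻¹) := by group
    _ = pi a b u w * W * x * (x * Z) := by
        have e7 : u * x * u⁻¹ = x := by rw [h.ab u hu x hx]; group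
        rw [e1, e2, e7]
    _ = pi a b u w * (W * (x * x) * Z) := by group
    _ = W * Z := by rw [h.sq x hx, mul_one, hkey, one_mul]
    _ = a * b * (w * y) * (a * b)⁻¹ := by rw [hW, hZ]; group

/-- conjugate of `y` by `[u, v^ρ]` -/
theorem conj_Y {u v y : G} (hu : u ∈ U) (hv : v ∈ U)
    (hd' : v * (a * b * u * (a * b)⁻¹) * v⁻¹ * (a * b * u * (a * b)⁻¹)⁻¹ ∈ D)
    (hy : y ∈ U) (hyD : y ∈ D) :
    u * (a * b * v * (a * b)⁻¹) * u⁻¹ * (a * b * v * (a * b)⁻¹)⁻¹ * y *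
      (u * (a * b * v * (a * b)⁻¹) * u⁻¹ * (a * b * v * (a * b)⁻¹)⁻¹)⁻¹ =
      pi a b u (pi a b v y) * y := by
  have hkey := h.key hv hu hd' hy hyD
  obtain ⟨hw, hwD⟩ := h.pi_mem (u := v) hv hyD
  obtain ⟨hp, hpD⟩ := h.pi_mem (u := u) hu hwD
  obtain ⟨hW, hWD⟩ := h.rho_Y hw hwD
  have h4 := h.rho v hv
  have h6 := h.rho_conj hv hy hyD
  have h7 := h.rho_conj hv hp hpD
  rw [hkey] at h7
  have h9 := h.ab' _ h4 _ hW
  set v' := a * b * v * (a * b)⁻¹ with hv'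
  set w := pi a b v y with hwe
  set W := a * b * w * (a * b)⁻¹ with hWe
  set p := pi a b u w with hpe
  have hWW : W * W = 1 := by
    have e : W * W = a * b * (w * w) * (a * b)⁻¹ := by rw [hWe]; group
    rw [e, h.sq w hw]; group
  have hvv : v'⁻¹ = v' := by
    have e : v'⁻¹ = a * b * v⁻¹ * (a * b)⁻¹ := by rw [hv']; group
    rw [e, h.sq' hv]
  have e1 : u * W * u⁻¹ = p * W := by
    rw [hpe]
    unfold pi
    rw [← hWe]
    group
  have e2 : v'⁻¹ * y * v' = W * y := by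
    have e : v'⁻¹ * y * v' = v' * y * v'⁻¹ := by rw [hvv]
    rw [e, h6]
  have e3 : u⁻¹ * (W * y) * u = p * W * y := by
    have e : u⁻¹ * (W * y) * u = u * (W * y) * u⁻¹ := by rw [h.sq' hu]
    have e' : u * y * u⁻¹ = y := by rw [h.ab u hu y hy]; group
    calc u⁻¹ * (W * y) * u = u * (W * y) * u⁻¹ := e
      _ = (u * W * u⁻¹) * (u * y * u⁻¹) := by group
      _ = p * W * y := by rw [e1, e']
  have e4 : v' * W * v'⁻¹ = W := by rw [h9]; group
  have e5 : v' * p * v'⁻¹ = p := by rw [h7]; group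
  have e6 : v' * (p * W * y) * v'⁻¹ = p * y := by
    calc v' * (p * W * y) * v'⁻¹ = (v' * p * v'⁻¹) * (v' * W * v'⁻¹) * (v' * y * v'⁻¹) := by group
      _ = p * W * (W * y) := by rw [e4, e5, h6]
      _ = p * (W * W) * y := by group
      _ = p * y := by rw [hWW, mul_one]
  have e7 : u * (p * y) * u⁻¹ = p * y := by
    rw [h.ab u hu _ (mul_mem hp hy)]; group
  calc u * v' * u⁻¹ * v'⁻¹ * y * (u * v' * u⁻¹ * v'⁻¹)⁻¹
      = u * (v' * (u⁻¹ * (v'⁻¹ * y * v') * u) * v'⁻¹) * u⁻¹ := by group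
    _ = p * y := by rw [e2, e3, e6, e7]

/-- **Commutation.** -/
theorem pi_comm {u v y : G} (hu : u ∈ U) (hv : v ∈ U)
    (hd : u * (a * b * v * (a * b)⁻¹) * u⁻¹ * (a * b * v * (a * b)⁻¹)⁻¹ ∈ D)
    (hd' : v * (a * b * u * (a * b)⁻¹) * v⁻¹ * (a * b * u * (a * b)⁻¹)⁻¹ ∈ D)
    (hy : y ∈ U) (hyD : y ∈ D) : pi a b u (pi a b v y) = pi a b v (pi a b u y) := by
  have h1 := h.conj_rho hu hv hd hy hyD
  have h2 := h.conj_Y hu hv hd' hy hyD
  set δ := u * (a * b * v * (a * b)⁻¹) * u⁻¹ * (a * b * v * (a * b)⁻¹)⁻¹ with hδ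
  -- `κ₁ = [a, δ] ∈ Y`, `κ₂ = [b, δ] ∈ Y'`
  have k1 : a⁻¹ * δ * a * δ⁻¹ ∈ U ∧ a⁻¹ * δ * a * δ⁻¹ ∈ D := by
    constructor
    · have e : a⁻¹ * δ * a * δ⁻¹ = a⁻¹ * (δ * a * δ⁻¹) := by group
      rw [e]
      exact mul_mem (inv_mem h.aU) (h.DU δ hd a h.aU)
    · have := h.UD a⁻¹ (inv_mem h.aU) δ hd
      rw [inv_inv] at this
      exact mul_mem this (inv_mem hd)
  have k2 : b⁻¹ * δ * b * δ⁻¹ ∈ U' ∧ b⁻¹ * δ * b * δ⁻¹ ∈ D := by
    constructor
    · have e : b⁻¹ * δ * b * δ⁻¹ = b⁻¹ * (δ * b * δ⁻¹) := by group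
      rw [e]
      exact mul_mem (inv_mem h.bU) (h.DU' δ hd b h.bU)
    · have := h.UD' b⁻¹ (inv_mem h.bU) δ hd
      rw [inv_inv] at this
      exact mul_mem this (inv_mem hd)
  set κ₁ := a⁻¹ * δ * a * δ⁻¹ with hκ₁
  set κ₂ := b⁻¹ * δ * b * δ⁻¹ with hκ₂
  -- `c = κ₁ [κ₁, b] κ₂`
  have k3 : κ₁⁻¹ * b⁻¹ * κ₁ * b ∈ U' ∧ κ₁⁻¹ * b⁻¹ * κ₁ * b ∈ D := by
    constructor
    · have := h.DU' κ₁⁻¹ (inv_mem k1.2) b⁻¹ (inv_mem h.bU)
      rw [inv_inv] at this
      exact mul_mem this h.bU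
    · have e : κ₁⁻¹ * b⁻¹ * κ₁ * b = κ₁⁻¹ * (b⁻¹ * κ₁ * b) := by group
      rw [e]
      have := h.UD' b⁻¹ (inv_mem h.bU) κ₁ k1.2
      rw [inv_inv] at this
      exact mul_mem (inv_mem k1.2) this
  have hyy : δ * y * δ⁻¹ ∈ U ∧ δ * y * δ⁻¹ ∈ D :=
    ⟨h.DU δ hd y hy, mul_mem (mul_mem hd hyD) (inv_mem hd)⟩
  have c1 := h.ab κ₁ k1.1 _ hyy.1
  have c2 := h.comm hyy.1 hyy.2 k2.1 k2.2
  have c3 := h.comm hyy.1 hyy.2 k3.1 k3.2
  set X := δ * y * δ⁻¹ with hX
  have e1 : δ * (a * b * y * (a * b)⁻¹) * δ⁻¹ = a * b * X * (a * b)⁻¹ := by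
    have e2 : (a * b)⁻¹ * δ * (a * b) = κ₁ * (κ₁⁻¹ * b⁻¹ * κ₁ * b) * κ₂ * δ := by
      rw [hκ₁, hκ₂]; group
    have e3 : (κ₁ * (κ₁⁻¹ * b⁻¹ * κ₁ * b) * κ₂) * X = X * (κ₁ * (κ₁⁻¹ * b⁻¹ * κ₁ * b) * κ₂) := by
      calc (κ₁ * (κ₁⁻¹ * b⁻¹ * κ₁ * b) * κ₂) * X = κ₁ * (κ₁⁻¹ * b⁻¹ * κ₁ * b) * (κ₂ * X) := by group
        _ = κ₁ * ((κ₁⁻¹ * b⁻¹ * κ₁ * b) * X) * κ₂ := by rw [← c2]; group
        _ = (κ₁ * X) * (κ₁⁻¹ * b⁻¹ * κ₁ * b) * κ₂ := by rw [← c3]; group
        _ = X * (κ₁ * (κ₁⁻¹ * b⁻¹ * κ₁ * b) * κ₂) := by rw [c1]; group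
    calc δ * (a * b * y * (a * b)⁻¹) * δ⁻¹
        = a * b * (((a * b)⁻¹ * δ * (a * b)) * y * ((a * b)⁻¹ * δ * (a * b))⁻¹) * (a * b)⁻¹ := by group
      _ = a * b * ((κ₁ * (κ₁⁻¹ * b⁻¹ * κ₁ * b) * κ₂) * X *
          (κ₁ * (κ₁⁻¹ * b⁻¹ * κ₁ * b) * κ₂)⁻¹) * (a * b)⁻¹ := by rw [e2, hX]; group
      _ = a * b * X * (a * b)⁻¹ := by rw [e3]; group
  rw [h1, h2] at e1
  have e4 : pi a b v (pi a b u y) * y = pi a b u (pi a b v y) * y := by
    have := congrArg (fun t => (a * b)⁻¹ * t * (a * b)) e1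
    simpa [mul_assoc] using this
  exact (mul_right_cancel e4).symm

/-- Orthogonality. -/
theorem orth' {u v : G} (hu : u ∈ U) (hv : v ∈ U)
    (hd : u * (a * b * v * (a * b)⁻¹) * u⁻¹ * (a * b * v * (a * b)⁻¹)⁻¹ ∈ D)
    (hd' : v * (a * b * u * (a * b)⁻¹) * v⁻¹ * (a * b * u * (a * b)⁻¹)⁻¹ ∈ D)
    (iv : ∀ y, y ∈ U → y ∈ D → pi a b v (pi a b v y) = pi a b v y)
    {y : G} (hy : y ∈ U) (hyD : y ∈ D) : pi a b u (pi a b v y) = 1 := by
  obtain ⟨m, d⟩ := h.pi_mem (u := v) hv hyD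
  have h1 := h.key hv hu hd' hy hyD
  rw [← h.pi_comm hu hv hd hd' m d, iv y hy hyD] at h1
  exact h1

end Co

end Cfsg.Agent.Omega.NOThreeL.ATwo

end

-- merged: Cfsg.Agent.Mrg.Omega.NOThreeL.ATwo.ExactQ
section

/-!
# NO-3L A2, all `q` (text #16411 (1), (2), helper69)

`M : NatK F S P (zl S P) ⊥ k`, `V = zl S P`; `U` elementary abelian, normalised by `S` and `C_G(V)`, induces all upper
unitriangular elements of `SL₂(F)^k` on `V`; every nontrivial `S`-invariant subgroup of `U` contains a nontrivial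
element of `V`.

* `CfgQ.inf_eq` : `U ∩ U^w = 1` for `w ∈ P` acting as antidiagonal matrices;
* `CfgQ.exists_comps` : the pair `U`, `U^w` over `C_G(V)` (`CompsQ`);
* `CompsQ.idem`, `CompsQ.orth`, `CompsQ.inj` : `pi u` is idempotent for 0/1-vectors, `pi u (pi v y) = 1` for disjoint
  supports (`v` a 0/1-vector), `pi u` is injective for full support.
-/

set_option autoImplicit false
set_option Elab.async false

namespace Cfsg.Agent.Omega.NOThreeL.ATwo

open Subgroup Cfsg Cfsg.Agent.ZN Cfsg.Agent.ZN.ChoiceBase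
open Cfsg.Agent.Omega.MinPar Cfsg.Agent.Omega.FFThm
open Cfsg.Agent.MinSimple.VModule (le_normalizer_zl)
open Cfsg.Agent.Lib.SL2Mat
open Cfsg.Agent.Omega.NatPair (ap ap_mul ap_one ap_inv_ap ap_ap_inv exists_ap ap_add)
open Cfsg.Agent.Omega.IId (Ind cj_mem cj_mem' e_inj acts_mul acts_inv acts_one sg sg_spec e_one e_inv)

universe u

variable {G : Type u} [Group G] {F : Type} [Field F] {S P : Subgroup G} {k : ℕ}

section mat

variable [CharP F 2]

theorem wm_up_c (c : F) (hc : c ≠ 0) (b : F) : wm c hc * up b * (wm c hc)⁻¹ = lo (-(c⁻¹ * c⁻¹ * b)) := by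
  rw [ent_inv]
  refine ext_ent ?_ ?_ ?_ ?_ <;> simp only [ent_mul, wm_00, wm_01, wm_10, wm_11, up_00, up_01, up_10, up_11,
    lo_00, lo_01, lo_10, lo_11, mk_00, mk_01, mk_10, mk_11] <;> field_simp <;> ring

theorem wm_inv_up (b : F) : (wm (1 : F) one_ne_zero)⁻¹ * up b * wm (1 : F) one_ne_zero = lo b := by
  have h2 : (2 : F) = 0 := CharTwo.two_eq_zero
  rw [ent_inv]
  refine ext_ent ?_ ?_ ?_ ?_ <;> simp only [ent_mul, wm_00, wm_01, wm_10, wm_11, up_00, up_01, up_10, up_11,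
    lo_00, lo_01, lo_10, lo_11, mk_00, mk_01, mk_10, mk_11, inv_one]
  · ring
  · ring
  · linear_combination (-b) * h2
  · ring

/-- `lo β = up β⁻¹ (antidiagonal) up β⁻¹` -/
theorem up_lo_up (β : F) (hβ : β ≠ 0) :
    (up β⁻¹)⁻¹ * lo β * (up β⁻¹)⁻¹ = wm (-β⁻¹) (neg_ne_zero.2 (inv_ne_zero hβ)) := by
  rw [up_inv]
  refine ext_ent ?_ ?_ ?_ ?_ <;> simp only [ent_mul, wm_00, wm_01, wm_10, wm_11, up_00, up_01, up_10, up_11,
    lo_00, lo_01, lo_10, lo_11] <;> field_simp <;> ring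

theorem wm_rho : (wm (1 : F) one_ne_zero)⁻¹ * (up (1 : F) * lo (1 : F)) = up 1 := by
  have h2 : (2 : F) = 0 := CharTwo.two_eq_zero
  rw [ent_inv]
  refine ext_ent ?_ ?_ ?_ ?_ <;> simp only [ent_mul, wm_00, wm_01, wm_10, wm_11, up_00, up_01, up_10, up_11,
    lo_00, lo_01, lo_10, lo_11, mk_00, mk_01, mk_10, mk_11, inv_one]
  · linear_combination (-1 : F) * h2
  · linear_combination (-1 : F) * h2
  · linear_combination (1 : F) * h2
  · ring

end mat

structure CfgQ (M : NatK F S P (zl S P) ⊥ k) (U : Subgroup G) : Prop where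
  pos : 0 < k
  SP : S ≤ P
  ind : Ind M U Set.univ
  UP : U ≤ P
  SU : S ≤ normalizer (U : Set G)
  cent : centralizer (zl S P : Set G) ≤ normalizer (U : Set G)
  ab : ∀ u ∈ U, ∀ v ∈ U, u * v = v * u
  sq : ∀ u ∈ U, u * u = 1
  core : ∀ T : Subgroup G, T ≤ U → S ≤ normalizer (T : Set G) → T ≠ ⊥ → ∃ x ∈ T, x ≠ 1 ∧ x ∈ zl S P

variable {M : NatK F S P (zl S P) ⊥ k}

namespace CfgQ

variable {U : Subgroup G} (h : CfgQ M U)
include h

theorem cent_conj {g d x : G} (hg : g ∈ P) (hd : d ∈ centralizer (zl S P : Set G)) (hx : x ∈ cj g U) :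
    d * x * d⁻¹ ∈ cj g U := by
  rw [mem_cj] at hx ⊢
  have h1 : g⁻¹ * d * g ∈ centralizer (zl S P : Set G) := by
    have := Cfg.cent_norm (inv_mem hg) hd
    rwa [inv_inv] at this
  have h3 := (mem_normalizer_iff.1 (h.cent h1) _).1 hx
  have e : g⁻¹ * (d * x * d⁻¹) * g = g⁻¹ * d * g * (g⁻¹ * x * g) * (g⁻¹ * d * g)⁻¹ := by group
  rwa [e]

/-- Elements of `P` acting in the same way conjugate `U` to the same group. -/
theorem cj_congr {g x : G} (hx : x ∈ P) {A : Fin k → Matrix.SpecialLinearGroup (Fin 2) F} (hg : g ∈ P)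
    (h1 : ActsSL M.e (zl S P) ⊥ g A) (h2 : ActsSL M.e (zl S P) ⊥ x A) : cj g U = cj x U := by
  have h3 : x⁻¹ * g ∈ centralizer (zl S P : Set G) := by
    refine mem_cent_of_acts (M := M) (mul_mem (inv_mem hx) hg) ?_
    have h3 := acts_mul hg (acts_inv hx h2) h1
    rwa [inv_mul_cancel] at h3
  have h4 := cj_eq_of_mem_normalizer (h.cent h3)
  rw [← cj_cj] at h4
  have h5 := congrArg (cj x) h4
  rwa [cj_cj_inv] at h5

variable [CharP F 2]

theorem exists_up (b : Fin k → F) : ∃ u ∈ U, Up M u b :=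
  h.ind.ex b fun _ hi => (hi (Set.mem_univ _)).elim

theorem exists_b {u : G} (hu : u ∈ U) : ∃ b : Fin k → F, Up M u b := by
  obtain ⟨b, -, hb⟩ := h.ind.act u hu
  exact ⟨b, hb⟩

/-- `U^w` induces all lower unitriangular elements. -/
theorem exists_lo {w : G} (hw : w ∈ P) {c : Fin k → F} {hc : ∀ i, c i ≠ 0}
    (hwA : ActsSL M.e (zl S P) ⊥ w fun i => wm (c i) (hc i)) (b : Fin k → F) :
    ∃ v ∈ cj w U, v ∈ P ∧ ActsSL M.e (zl S P) ⊥ v fun i => lo (b i) := by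
  obtain ⟨u, hu, hub⟩ := h.exists_up fun i => -(c i * c i * b i)
  refine ⟨w * u * w⁻¹, ?_, mul_mem (mul_mem hw (h.UP hu)) (inv_mem hw), ?_⟩
  · rw [mem_cj]
    have e : w⁻¹ * (w * u * w⁻¹) * w = u := by group
    rwa [e]
  · have h1 := acts_conj hw (h.UP hu) hwA hub
    have e : ((fun i => wm (c i) (hc i)) * (fun i => up (-(c i * c i * b i))) * (fun i => wm (c i) (hc i))⁻¹ :
        Fin k → Matrix.SpecialLinearGroup (Fin 2) F) = fun i => lo (b i) := by
      funext i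
      rw [Pi.mul_apply, Pi.mul_apply, Pi.inv_apply, wm_up_c]
      congr 1
      have := hc i
      field_simp
    rwa [e] at h1

/-- **(1)** `U ∩ U^w = 1`. -/
theorem inf_eq {w : G} (hw : w ∈ P) {c : Fin k → F} {hc : ∀ i, c i ≠ 0}
    (hwA : ActsSL M.e (zl S P) ⊥ w fun i => wm (c i) (hc i)) : U ⊓ cj w U = ⊥ := by
  -- `U` and `U^w` centralise `T`
  have cU : ∀ u ∈ U, ∀ t ∈ U ⊓ cj w U, u * t = t * u := fun u hu t ht => h.ab u hu t (mem_inf.1 ht).1
  have cU' : ∀ v ∈ cj w U, ∀ t ∈ U ⊓ cj w U, v * t = t * v := by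
    intro v hv t ht
    have h1 := h.ab _ (mem_cj.1 hv) _ (mem_cj.1 (mem_inf.1 ht).2)
    calc v * t = w * ((w⁻¹ * v * w) * (w⁻¹ * t * w)) * w⁻¹ := by group
      _ = w * ((w⁻¹ * t * w) * (w⁻¹ * v * w)) * w⁻¹ := by rw [h1]
      _ = t * v := by group
  -- elements of `SL₂(F)^k`
  have hSL : ∀ g ∈ P, ∀ A, ActsSL M.e (zl S P) ⊥ g A → ∃ x ∈ P, (∀ t ∈ U ⊓ cj w U, x * t = t * x) ∧
      g * x⁻¹ ∈ centralizer (zl S P : Set G) := by
    intro g hg A hA
    choose α β γ δ hABCD using fun i => exists_up_lo (A i)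
    obtain ⟨u1, hu1, hu1A⟩ := h.exists_up α
    obtain ⟨v1, hv1, hv1P, hv1A⟩ := h.exists_lo hw hwA β
    obtain ⟨u2, hu2, hu2A⟩ := h.exists_up γ
    obtain ⟨v2, hv2, hv2P, hv2A⟩ := h.exists_lo hw hwA δ
    have hx := acts_mul hv2P (acts_mul (h.UP hu2) (acts_mul hv1P hu1A hv1A) hu2A) hv2A
    have hxP : u1 * v1 * u2 * v2 ∈ P := mul_mem (mul_mem (mul_mem (h.UP hu1) hv1P) (h.UP hu2)) hv2P
    refine ⟨u1 * v1 * u2 * v2, hxP, fun t ht => ?_, ?_⟩
    · have a1 := cU u1 hu1 t ht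
      have a2 := cU' v1 hv1 t ht
      have a3 := cU u2 hu2 t ht
      have a4 := cU' v2 hv2 t ht
      calc u1 * v1 * u2 * v2 * t = u1 * v1 * u2 * (v2 * t) := by group
        _ = u1 * v1 * (u2 * t) * v2 := by rw [a4]; group
        _ = u1 * (v1 * t) * u2 * v2 := by rw [a3]; group
        _ = (u1 * t) * v1 * u2 * v2 := by rw [a2]; group
        _ = t * (u1 * v1 * u2 * v2) := by rw [a1]; group
    · refine mem_cent_of_eq (M := M) hg hxP hA ?_
      have e : ((fun i => up (α i)) * (fun i => lo (β i)) * (fun i => up (γ i)) * (fun i => lo (δ i)) :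
          Fin k → Matrix.SpecialLinearGroup (Fin 2) F) = A := by
        funext i
        rw [hABCD i]
        rfl
      rw [← e]
      exact hx
  have hnorm : ∀ g ∈ P, ∀ A, ActsSL M.e (zl S P) ⊥ g A → ∀ t ∈ U ⊓ cj w U, g * t * g⁻¹ ∈ U ⊓ cj w U := by
    intro g hg A hA t ht
    obtain ⟨x, hx, hxc, hd⟩ := hSL g hg A hA
    have h1 := hxc t ht
    have e : g * t * g⁻¹ = (g * x⁻¹) * t * (g * x⁻¹)⁻¹ := by
      calc g * t * g⁻¹ = (g * x⁻¹) * (x * t) * x⁻¹ * (g * x⁻¹)⁻¹ := by group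
        _ = (g * x⁻¹) * (t * x) * x⁻¹ * (g * x⁻¹)⁻¹ := by rw [h1]
        _ = (g * x⁻¹) * t * (g * x⁻¹)⁻¹ := by group
    rw [e, mem_inf]
    refine ⟨(mem_normalizer_iff.1 (h.cent hd) t).1 (mem_inf.1 ht).1, h.cent_conj hw hd (mem_inf.1 ht).2⟩
  have hSn : ∀ s ∈ S, ∀ t ∈ U ⊓ cj w U, s * t * s⁻¹ ∈ U ⊓ cj w U := by
    intro s hs t ht
    rw [mem_inf]
    refine ⟨(mem_normalizer_iff.1 (h.SU hs) t).1 (mem_inf.1 ht).1, ?_⟩
    rw [mem_cj]
    have hy : s⁻¹ * w⁻¹ * s ∈ P := mul_mem (mul_mem (inv_mem (h.SP hs)) (inv_mem hw)) (h.SP hs)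
    obtain ⟨B, hB⟩ := M.norm s⁻¹ (inv_mem (h.SP hs)) w⁻¹ (inv_mem hw) _ (acts_inv hw hwA).1
    rw [inv_inv] at hB
    have h1 := hnorm _ hy B ⟨hB, fun d hd => by
      rw [mem_bot] at hd
      rw [hd]; group⟩ t ht
    have h2 := (mem_normalizer_iff.1 (h.SU hs) _).1 (mem_inf.1 h1).1
    have e : s * (s⁻¹ * w⁻¹ * s * t * (s⁻¹ * w⁻¹ * s)⁻¹) * s⁻¹ = w⁻¹ * (s * t * s⁻¹) * w := by group
    rwa [e] at h2
  by_contra hne
  obtain ⟨x, hx, hx1, hxV⟩ := h.core _ inf_le_left (by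
    intro s hs
    rw [mem_normalizer_iff]
    intro t
    refine ⟨hSn s hs t, fun ht => ?_⟩
    have h1 := hSn s⁻¹ (inv_mem hs) _ ht
    have e : s⁻¹ * (s * t * s⁻¹) * s⁻¹⁻¹ = t := by group
    rwa [e] at h1) hne
  apply hx1
  obtain ⟨u, hu, huA⟩ := h.exists_up fun _ => 1
  obtain ⟨v, hv, hvP, hvA⟩ := h.exists_lo hw hwA fun _ => 1
  have h1 : u * x * u⁻¹ = x := by rw [cU u hu x hx]; group
  have h2 : v * x * v⁻¹ = x := by rw [cU' v hv x hx]; group
  refine e_inj M hxV (one_mem _) ?_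
  rw [e_one]
  funext i
  have h3 := huA.1 x hxV i
  have h4 := hvA.1 x hxV i
  rw [h1] at h3
  rw [h2] at h4
  have h5 := congrFun h3 0
  have h6 := congrFun h4 1
  rw [NatPair.ap_zero'] at h5
  rw [NatPair.ap_one'] at h6
  simp only [up_00, up_01, lo_10, lo_11, one_mul] at h5 h6
  apply NatPair.ext2
  · exact right_eq_add.1 h6
  · exact left_eq_add.1 h5

end CfgQ

/-- The pair of `U` and its opposite. -/
structure CompsQ (M : NatK F S P (zl S P) ⊥ k) (U U' : Subgroup G) (a b w : G) : Prop extends CfgQ M U where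
  co : Co U U' (centralizer (zl S P : Set G)) a b
  aP : a ∈ P
  bP : b ∈ P
  UP' : U' ≤ P
  aA : Up M a fun _ => 1
  bA : ActsSL M.e (zl S P) ⊥ b fun _ => lo 1
  wP : w ∈ P
  wA : ActsSL M.e (zl S P) ⊥ w fun _ => wm (1 : F) one_ne_zero
  Uw : U' = cj w U

theorem CfgQ.exists_comps [CharP F 2] {U : Subgroup G} (h : CfgQ M U) :
    ∃ (a b w : G) (U' : Subgroup G), CompsQ M U U' a b w := by
  obtain ⟨w, hw, hwA⟩ := M.lift fun _ => wm (1 : F) one_ne_zero
  obtain ⟨a, ha, haA⟩ := h.exists_up fun _ => 1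
  have hb : w * a * w⁻¹ ∈ P := mul_mem (mul_mem hw (h.UP ha)) (inv_mem hw)
  have hbA : ActsSL M.e (zl S P) ⊥ (w * a * w⁻¹) fun _ => lo 1 := by
    have h1 := acts_conj hw (h.UP ha) hwA haA
    have h2 : ((fun _ => wm (1 : F) one_ne_zero) * (fun _ => up 1) * (fun _ => wm (1 : F) one_ne_zero)⁻¹ :
        Fin k → Matrix.SpecialLinearGroup (Fin 2) F) = fun _ => lo 1 := by
      funext i
      rw [Pi.mul_apply, Pi.mul_apply, Pi.inv_apply, wm_up]
    rwa [h2] at h1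
  have hU'P : cj w U ≤ P := by
    intro x hx
    rw [mem_cj] at hx
    have e : x = w * (w⁻¹ * x * w) * w⁻¹ := by group
    rw [e]
    exact mul_mem (mul_mem hw (h.UP hx)) (inv_mem hw)
  have hρ : cj (a * (w * a * w⁻¹)) U = cj w U := by
    -- `w⁻¹ ρ` acts as `up 1`
    have h1 := acts_mul (mul_mem (h.UP ha) hb) (acts_inv hw hwA) (acts_mul hb haA hbA)
    have e : ((fun _ => wm (1 : F) one_ne_zero)⁻¹ * ((fun _ => up 1) * fun _ => lo 1) :
        Fin k → Matrix.SpecialLinearGroup (Fin 2) F) = fun _ => up 1 := by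
      funext i
      rw [Pi.mul_apply, Pi.mul_apply, Pi.inv_apply, wm_rho]
    rw [e] at h1
    have h2 := h.cj_congr (h.UP ha) (mul_mem (inv_mem hw) (mul_mem (h.UP ha) hb)) h1 haA
    have h3 : cj a U = U := cj_eq_of_mem_normalizer (le_normalizer ha)
    rw [h3, ← cj_cj] at h2
    have h5 := congrArg (cj w) h2
    rwa [cj_cj_inv] at h5
  refine ⟨a, w * a * w⁻¹, w, cj w U, ⟨h, ?_, h.UP ha, hb, hU'P, haA, hbA, hw, hwA, rfl⟩⟩
  exact
    { aU := ha
      bU := by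
        rw [mem_cj]
        have e : w⁻¹ * (w * a * w⁻¹) * w = a := by group
        rwa [e]
      ab := h.ab
      ab' := by
        intro u hu v hv
        rw [mem_cj] at hu hv
        have h1 := h.ab _ hu _ hv
        calc u * v = w * ((w⁻¹ * u * w) * (w⁻¹ * v * w)) * w⁻¹ := by group
          _ = w * ((w⁻¹ * v * w) * (w⁻¹ * u * w)) * w⁻¹ := by rw [h1]
          _ = v * u := by group
      sq := h.sq
      inf := by
        intro x hx hx'
        have h1 : x ∈ U ⊓ cj w U := ⟨hx, hx'⟩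
        rwa [h.inf_eq hw hwA, mem_bot] at h1
      DU := by
        intro d hd u hu
        have h1 := h.cent_conj (one_mem P) hd (x := u) (by rwa [cj_one])
        rwa [cj_one] at h1
      DU' := fun d hd u hu => h.cent_conj hw hd hu
      UD := fun u hu d hd => Cfg.cent_norm (h.UP hu) hd
      UD' := fun u hu d hd => Cfg.cent_norm (hU'P hu) hd
      rho := by
        intro u hu
        rw [← hρ, mem_cj]
        have e : (a * (w * a * w⁻¹))⁻¹ * (a * (w * a * w⁻¹) * u * (a * (w * a * w⁻¹))⁻¹) *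
          (a * (w * a * w⁻¹)) = u := by group
        rwa [e] }

namespace CompsQ

variable [CharP F 2] {a b w : G} {U U' : Subgroup G} (h : CompsQ M U U' a b w)
include h

theorem rhoP : a * b ∈ P := mul_mem h.aP h.bP

theorem rho_acts : ActsSL M.e (zl S P) ⊥ (a * b) fun _ => up 1 * lo 1 := by
  have := acts_mul h.bP h.aA h.bA
  exact this

theorem rho_lo {v : G} {c : Fin k → F} (hv : v ∈ P) (hc : Up M v c) :
    ActsSL M.e (zl S P) ⊥ (a * b * v * (a * b)⁻¹) fun i => lo (c i) := by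
  have h1 := acts_conj h.rhoP hv h.rho_acts hc
  have e : ((fun _ => up 1 * lo 1) * (fun i => up (c i)) * (fun _ => up 1 * lo 1)⁻¹ :
      Fin k → Matrix.SpecialLinearGroup (Fin 2) F) = fun i => lo (c i) := by
    funext i
    rw [Pi.mul_apply, Pi.mul_apply, Pi.inv_apply, rho_up]
  rwa [e] at h1

/-- `[u, v^ρ] ∈ C_G(V)` for disjoint supports. -/
theorem disj {u v : G} {β γ : Fin k → F} (hu : u ∈ P) (hv : v ∈ P) (h1 : Up M u β) (h2 : Up M v γ)
    (hd : ∀ i, β i = 0 ∨ γ i = 0) :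
    u * (a * b * v * (a * b)⁻¹) * u⁻¹ * (a * b * v * (a * b)⁻¹)⁻¹ ∈ centralizer (zl S P : Set G) := by
  have h3 := h.rho_lo hv h2
  have hv' : a * b * v * (a * b)⁻¹ ∈ P := mul_mem (mul_mem h.rhoP hv) (inv_mem h.rhoP)
  refine mem_cent_of_acts (M := M) (mul_mem (mul_mem (mul_mem hu hv') (inv_mem hu)) (inv_mem hv')) ?_
  have h4 := acts_mul (inv_mem hv') (acts_mul (inv_mem hu) (acts_mul hv' h1 h3) (acts_inv hu h1))
    (acts_inv hv' h3)
  have e : ((fun i => up (β i)) * (fun i => lo (γ i)) * (fun i => up (β i))⁻¹ * (fun i => lo (γ i))⁻¹ :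
      Fin k → Matrix.SpecialLinearGroup (Fin 2) F) = 1 := by
    funext i
    rw [Pi.mul_apply, Pi.mul_apply, Pi.mul_apply, Pi.inv_apply, Pi.inv_apply, Pi.one_apply]
    rcases hd i with h0 | h0
    · rw [h0, up_zero]; group
    · rw [h0, lo_zero]; group
  rwa [e] at h4

/-- `pi v` is idempotent for a 0/1-vector. -/
theorem idem {u y : G} {β : Fin k → F} (hu : u ∈ U) (hβ : Up M u β) (h01 : ∀ i, β i = 0 ∨ β i = 1) (hy : y ∈ U)
    (hyD : y ∈ centralizer (zl S P : Set G)) : pi a b u (pi a b u y) = pi a b u y := by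
  obtain ⟨v, hv, hvA⟩ := h.exists_up (1 + β)
  have h2 : (1 : F) + 1 = 0 := CharTwo.add_self_eq_zero 1
  have hd : ∀ i, β i = 0 ∨ (1 + β) i = 0 := by
    intro i
    rcases h01 i with h0 | h0
    · exact Or.inl h0
    · right
      rw [Pi.add_apply, Pi.one_apply, h0, h2]
  have hd' : ∀ i, (1 + β) i = 0 ∨ β i = 0 := fun i => (hd i).symm
  refine h.co.idem hu hv (h.disj (h.UP hu) (h.UP hv) hβ hvA hd) (h.disj (h.UP hv) (h.UP hu) hvA hβ hd') ?_ hy hyD
  refine Up.congr (M := M) (b := β + (1 + β)) (mul_mem (h.UP hu) (h.UP hv)) h.aP (Up.mul (h.UP hv) hβ hvA) ?_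
  have e : β + (1 + β) = fun _ => 1 := by
    funext i
    rw [Pi.add_apply, Pi.add_apply, Pi.one_apply]
    linear_combination (β i) * h2
  rw [e]
  exact h.aA

theorem comm {u v y : G} {β γ : Fin k → F} (hu : u ∈ U) (hv : v ∈ U) (h1 : Up M u β) (h2 : Up M v γ)
    (hd : ∀ i, β i = 0 ∨ γ i = 0) (hy : y ∈ U) (hyD : y ∈ centralizer (zl S P : Set G)) :
    pi a b u (pi a b v y) = pi a b v (pi a b u y) :=
  h.co.pi_comm hu hv (h.disj (h.UP hu) (h.UP hv) h1 h2 hd)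
    (h.disj (h.UP hv) (h.UP hu) h2 h1 fun i => (hd i).symm) hy hyD

theorem orth {u v y : G} {β γ : Fin k → F} (hu : u ∈ U) (hv : v ∈ U) (h1 : Up M u β) (h2 : Up M v γ)
    (h01 : ∀ i, γ i = 0 ∨ γ i = 1) (hd : ∀ i, β i = 0 ∨ γ i = 0) (hy : y ∈ U)
    (hyD : y ∈ centralizer (zl S P : Set G)) : pi a b u (pi a b v y) = 1 :=
  h.co.orth' hu hv (h.disj (h.UP hu) (h.UP hv) h1 h2 hd)
    (h.disj (h.UP hv) (h.UP hu) h2 h1 fun i => (hd i).symm) (fun _ hx hxD => h.idem hv h2 h01 hx hxD) hy hyD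

/-- `pi v` is injective for `v` of full support. -/
theorem inj {v y : G} {β : Fin k → F} (hv : v ∈ U) (hβ : Up M v β) (hne : ∀ i, β i ≠ 0) (hy : y ∈ U)
    (hyD : y ∈ centralizer (zl S P : Set G)) (h0 : pi a b v y = 1) : y = 1 := by
  obtain ⟨hZ, -⟩ := h.co.rho_Y hy hyD
  set Z := a * b * y * (a * b)⁻¹ with hZe
  have hc : v * Z * v⁻¹ = Z := by
    have h1 : v * Z * v⁻¹ * Z⁻¹ = 1 := h0
    exact mul_inv_eq_one.1 h1
  have hwP := h.wP
  -- `m = w⁻¹ v w` acts as `lo β`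
  have hmP : w⁻¹ * v * w ∈ P := mul_mem (mul_mem (inv_mem hwP) (h.UP hv)) hwP
  have hmA : ActsSL M.e (zl S P) ⊥ (w⁻¹ * v * w) fun i => lo (β i) := by
    have h1 := acts_mul hwP (acts_mul (h.UP hv) (acts_inv hwP h.wA) hβ) h.wA
    have e : ((fun _ => wm (1 : F) one_ne_zero)⁻¹ * (fun i => up (β i)) * (fun _ => wm (1 : F) one_ne_zero) :
        Fin k → Matrix.SpecialLinearGroup (Fin 2) F) = fun i => lo (β i) := by
      funext i
      rw [Pi.mul_apply, Pi.mul_apply, Pi.inv_apply, wm_inv_up]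
    rwa [e] at h1
  obtain ⟨u, hu, huA⟩ := h.exists_up fun i => (β i)⁻¹
  have hui : ActsSL M.e (zl S P) ⊥ u⁻¹ (fun i => up (β i)⁻¹)⁻¹ := acts_inv (h.UP hu) huA
  have hw1P : u⁻¹ * (w⁻¹ * v * w) * u⁻¹ ∈ P := mul_mem (mul_mem (inv_mem (h.UP hu)) hmP) (inv_mem (h.UP hu))
  have hw1A : ActsSL M.e (zl S P) ⊥ (u⁻¹ * (w⁻¹ * v * w) * u⁻¹)
      fun i => wm (-(β i)⁻¹) (neg_ne_zero.2 (inv_ne_zero (hne i))) := by
    have h1 := acts_mul (inv_mem (h.UP hu)) (acts_mul hmP hui hmA) hui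
    have e : ((fun i => up (β i)⁻¹)⁻¹ * (fun i => lo (β i)) * (fun i => up (β i)⁻¹)⁻¹ :
        Fin k → Matrix.SpecialLinearGroup (Fin 2) F) =
        fun i => wm (-(β i)⁻¹) (neg_ne_zero.2 (inv_ne_zero (hne i))) := by
      funext i
      rw [Pi.mul_apply, Pi.mul_apply, Pi.inv_apply, up_lo_up _ (hne i)]
    rwa [e] at h1
  have hinf := h.inf_eq hw1P hw1A
  -- `t = u⁻¹ (w⁻¹ Z w) u`
  have ht1 : w⁻¹ * Z * w ∈ U := by
    rw [h.Uw, mem_cj] at hZ
    exact hZ
  have ht2 : (w⁻¹ * v * w) * (w⁻¹ * Z * w) * (w⁻¹ * v * w)⁻¹ = w⁻¹ * Z * w := by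
    calc (w⁻¹ * v * w) * (w⁻¹ * Z * w) * (w⁻¹ * v * w)⁻¹ = w⁻¹ * (v * Z * v⁻¹) * w := by group
      _ = w⁻¹ * Z * w := by rw [hc]
  have ht3 : w⁻¹ * Z * w ∈ U ⊓ cj (u⁻¹ * (w⁻¹ * v * w) * u⁻¹) U := by
    refine mem_inf.2 ⟨ht1, ?_⟩
    rw [mem_cj]
    set t := w⁻¹ * Z * w with hte
    set m := w⁻¹ * v * w with hme
    have e1 : (u⁻¹ * m * u⁻¹)⁻¹ * t * (u⁻¹ * m * u⁻¹) = u * (m⁻¹ * (u * t * u⁻¹) * m) * u⁻¹ := by group
    have e2 : u * t * u⁻¹ = t := by rw [h.ab u hu t ht1]; group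
    have e3 : m⁻¹ * t * m = t := by
      calc m⁻¹ * t * m = m⁻¹ * (m * t * m⁻¹) * m := by rw [ht2]
        _ = t := by group
    rw [e1, e2, e3, e2]
    exact ht1
  rw [hinf, mem_bot] at ht3
  have hZ1 : Z = 1 := by
    calc Z = w * (w⁻¹ * Z * w) * w⁻¹ := by group
      _ = 1 := by rw [ht3]; group
  calc y = (a * b)⁻¹ * Z * (a * b) := by rw [hZe]; group
    _ = 1 := by rw [hZ1]; group

end CompsQ

end Cfsg.Agent.Omega.NOThreeL.ATwo

end

-- merged: Cfsg.Agent.Mrg.Omega.NOThreeL.ATwo.FamQ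
section

/-!
# NO-3L A2, all `q` (text #16411 (2), (3), helper69): the family of axes, centres and root groups

`h : CompsQ M U U' a b w`, `Y = U ∩ C_G(V)`:

* `ax M U i = U ∩ C_G(i-th factor)`, `cen`: the elements `y ∈ Y` with `pi (u i) y = y` (`u i` acts as `up` on the
  `i`-th factor only), `rt i = (cen i)^ρ`;
* `CompsQ.fam` : they form a `Fam (N_G(U)) U Y`.
-/

set_option autoImplicit false
set_option Elab.async false

namespace Cfsg.Agent.Omega.NOThreeL.ATwo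

open Subgroup Cfsg Cfsg.Agent.ZN Cfsg.Agent.ZN.ChoiceBase
open Cfsg.Agent.Omega.MinPar Cfsg.Agent.Omega.FFThm
open Cfsg.Agent.MinSimple.VModule (le_normalizer_zl)
open Cfsg.Agent.Lib.SL2Mat
open Cfsg.Agent.Omega.NatPair (ap ap_mul ap_one ap_inv_ap ap_ap_inv exists_ap ap_add)
open Cfsg.Agent.Omega.IId (Ind cj_mem cj_mem' e_inj acts_mul acts_inv acts_one sg sg_spec e_one e_inv fac
  exists_trans exists_fac)

universe u

variable {G : Type u} [Group G] {F : Type} [Field F] {S P : Subgroup G} {k : ℕ}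

/-- `u` acts as `up b`: `b i = 0` if and only if `u` centralises the `i`-th factor. -/
theorem up_eq_zero_iff {M : NatK F S P (zl S P) ⊥ k} {u : G} {b : Fin k → F} (hu : u ∈ P) (h : Up M u b)
    (i : Fin k) : b i = 0 ↔ u ∈ centralizer (fac M i : Set G) := by
  constructor
  · intro h0
    rw [mem_centralizer_iff]
    intro v hv
    have h1 : u * v * u⁻¹ = v := by
      refine e_inj M (cj_mem hu hv.1) hv.1 (funext fun j => ?_)
      rw [h.1 v hv.1 j]
      by_cases hj : j = i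
      · rw [hj]
        change ap (up (b i)) _ = _
        rw [h0, up_zero, ap_one]
      · rw [hv.2 j hj]
        apply NatPair.ext2
        · rw [NatPair.ap_zero']; simp
        · rw [NatPair.ap_one']; simp
    calc v * u = u * v * u⁻¹ * u := by rw [h1]
      _ = u * v := by group
  · intro hc
    obtain ⟨v, hv, he⟩ := exists_fac M i ![0, 1]
    have h1 := mem_centralizer_iff.1 hc v hv
    have h2 : M.e (u * v * u⁻¹) i = ap (up (b i)) (M.e v i) := h.1 v hv.1 i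
    have h3 : u * v * u⁻¹ = v := by rw [← h1]; group
    rw [h3, he] at h2
    have h4 := congrFun h2 0
    rw [NatPair.ap_zero'] at h4
    simp at h4
    exact h4.symm

variable {M : NatK F S P (zl S P) ⊥ k}

namespace CompsQ

variable [CharP F 2] {a b w : G} {U U' : Subgroup G}

/-- The `i`-th centre, for `v` acting as `up` on the `i`-th factor. -/
def cenS (h : CompsQ M U U' a b w) {v : G} (hv : v ∈ U) : Subgroup G where
  carrier := {y | y ∈ U ∧ y ∈ centralizer (zl S P : Set G) ∧ pi a b v y = y}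
  mul_mem' := by
    rintro x y ⟨hx, hxD, hxe⟩ ⟨hy, hyD, hye⟩
    refine ⟨mul_mem hx hy, mul_mem hxD hyD, ?_⟩
    rw [h.co.pi_mul hv hx hxD hy hyD, hxe, hye]
  one_mem' := ⟨one_mem _, one_mem _, h.co.pi_one⟩
  inv_mem' := by
    rintro x ⟨hx, hxD, hxe⟩
    rw [h.co.sq' hx]
    exact ⟨hx, hxD, hxe⟩

theorem mem_cenS {h : CompsQ M U U' a b w} {v : G} {hv : v ∈ U} {y : G} :
    y ∈ h.cenS hv ↔ y ∈ U ∧ y ∈ centralizer (zl S P : Set G) ∧ pi a b v y = y := Iff.rfl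

variable (h : CompsQ M U U' a b w)
include h

/-- `y` in the `i`-th centre: `pi u y` depends only on the `i`-th coordinate of `u`. -/
theorem pi_eq_of {i : Fin k} {v : G} (hv : v ∈ U) (hvA : Up M v (Pi.single i 1)) {u u1 y : G} (hu : u ∈ U)
    (hu1 : u1 ∈ U) {β γ : Fin k → F} (hβ : Up M u β) (hγ : Up M u1 γ) (he : β i = γ i) (hy : y ∈ U)
    (hyD : y ∈ centralizer (zl S P : Set G)) (hye : pi a b v y = y) : pi a b u y = pi a b u1 y := by
  have h1 : pi a b (u * u1) y = 1 := by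
    have h2 : (u * u1 ∈ U) := mul_mem hu hu1
    have h3 := Up.mul (h.UP hu1) hβ hγ
    rw [← hye]
    refine h.orth h2 hv h3 hvA (fun j => ?_) (fun j => ?_) hy hyD
    · by_cases hj : j = i
      · rw [hj, Pi.single_eq_same]; exact Or.inr rfl
      · rw [Pi.single_eq_of_ne hj]; exact Or.inl rfl
    · by_cases hj : j = i
      · rw [hj, Pi.add_apply, he]
        exact Or.inl (CharTwo.add_self_eq_zero _)
      · rw [Pi.single_eq_of_ne hj]; exact Or.inr rfl
  rw [h.co.mul_pi hu hu1 hyD] at h1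
  have h4 := (h.co.pi_mem (y := y) hu1 hyD).1
  have h5 := eq_inv_of_mul_eq_one_left h1
  rw [h5, h.co.sq' h4]

/-- `y` in the `i`-th centre: `pi u y` is in the `i`-th centre. -/
theorem pi_mem_cen {i : Fin k} {v : G} (hv : v ∈ U) (hvA : Up M v (Pi.single i 1)) {u y : G} (hu : u ∈ U)
    (hy : y ∈ U) (hyD : y ∈ centralizer (zl S P : Set G)) (hye : pi a b v y = y) :
    pi a b v (pi a b u y) = pi a b u y := by
  obtain ⟨β, hβ⟩ := h.exists_b hu
  obtain ⟨u1, hu1, hu1A⟩ := h.exists_up (Pi.single i (β i))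
  have h1 : pi a b u y = pi a b u1 y :=
    h.pi_eq_of hv hvA hu hu1 hβ hu1A (by rw [Pi.single_eq_same]) hy hyD hye
  rw [h1]
  -- the complement `c`
  obtain ⟨c, hc, hcA⟩ := h.exists_up (1 - Pi.single i 1)
  have hc01 : ∀ j, (Pi.single i 1 : Fin k → F) j = 0 ∨ (Pi.single i 1 : Fin k → F) j = 1 := by
    intro j
    by_cases hj : j = i
    · rw [hj, Pi.single_eq_same]; exact Or.inr rfl
    · rw [Pi.single_eq_of_ne hj]; exact Or.inl rfl
  obtain ⟨m1, d1⟩ := h.co.pi_mem (y := y) hu1 hyD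
  have h2 : pi a b c (pi a b u1 y) = 1 := by
    rw [h.comm hc hu1 hcA hu1A (fun j => ?_) hy hyD]
    · have h3 : pi a b c y = 1 := by
        rw [← hye]
        refine h.orth hc hv hcA hvA hc01 (fun j => ?_) hy hyD
        by_cases hj : j = i
        · left
          rw [hj, Pi.sub_apply, Pi.single_eq_same, Pi.one_apply, sub_self]
        · right
          rw [Pi.single_eq_of_ne hj]
      rw [h3, h.co.pi_one]
    · by_cases hj : j = i
      · left
        rw [hj, Pi.sub_apply, Pi.single_eq_same, Pi.one_apply, sub_self]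
      · right
        rw [Pi.single_eq_of_ne hj]
  have h4 : pi a b (v * c) (pi a b u1 y) = pi a b a (pi a b u1 y) := by
    refine h.co.pi_congr (mul_mem hv hc) h.co.aU ?_ m1 d1
    refine mem_cent_of_eq (M := M) (mul_mem (h.UP hv) (h.UP hc)) h.aP (Up.mul (h.UP hc) hvA hcA) ?_
    have e : Pi.single i 1 + (1 - Pi.single i 1) = (1 : Fin k → F) := by abel
    rw [e]
    exact h.aA
  rw [h.co.pi_a m1 d1, h.co.mul_pi hv hc d1, h2, mul_one] at h4
  exact h4

/-- `pi u y = 1` if `y` is in the `i`-th centre and `u` centralises the `i`-th factor. -/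
theorem pi_cen_eq_one {i : Fin k} {v : G} (hv : v ∈ U) (hvA : Up M v (Pi.single i 1)) {u y : G} (hu : u ∈ U)
    {β : Fin k → F} (hβ : Up M u β) (h0 : β i = 0) (hy : y ∈ U) (hyD : y ∈ centralizer (zl S P : Set G))
    (hye : pi a b v y = y) : pi a b u y = 1 := by
  rw [← hye]
  refine h.orth hu hv hβ hvA (fun j => ?_) (fun j => ?_) hy hyD
  · by_cases hj : j = i
    · rw [hj, Pi.single_eq_same]; exact Or.inr rfl
    · rw [Pi.single_eq_of_ne hj]; exact Or.inl rfl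
  · by_cases hj : j = i
    · rw [hj]; exact Or.inl h0
    · rw [Pi.single_eq_of_ne hj]; exact Or.inr rfl

/-- `pi u` is injective on the `i`-th centre if `u` does not centralise the `i`-th factor. -/
theorem inj_cen {i : Fin k} {v : G} (hv : v ∈ U) (hvA : Up M v (Pi.single i 1)) {u y : G} (hu : u ∈ U)
    {β : Fin k → F} (hβ : Up M u β) (h0 : β i ≠ 0) (hy : y ∈ U) (hyD : y ∈ centralizer (zl S P : Set G))
    (hye : pi a b v y = y) (h1 : pi a b u y = 1) : y = 1 := by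
  obtain ⟨x, hx, hxA⟩ := h.exists_up (Function.update 1 i (β i))
  refine h.inj hx hxA (fun j => ?_) hy hyD ?_
  · by_cases hj : j = i
    · rw [hj, Function.update_self]; exact h0
    · rw [Function.update_of_ne hj]; exact one_ne_zero
  · rw [h.pi_eq_of hv hvA hx hu hxA hβ (by rw [Function.update_self]) hy hyD hye, h1]

theorem gen {v : Fin k → G} (hv : ∀ i, v i ∈ U) (hvA : ∀ i, Up M (v i) (Pi.single i 1)) {R : Subgroup G}
    (hR : ∀ i, h.cenS (hv i) ≤ R) {y : G} (hy : y ∈ U) (hyD : y ∈ centralizer (zl S P : Set G)) : y ∈ R := by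
  have key : ∀ (I : Finset (Fin k)) (u : G), u ∈ U → Up M u (fun i => if i ∈ I then 1 else 0) →
      pi a b u y ∈ R := by
    intro I
    induction I using Finset.induction_on with
    | empty =>
      intro u hu hβ
      have e : (fun i => if i ∈ (∅ : Finset (Fin k)) then (1 : F) else 0) = 0 := by
        funext i
        rw [if_neg (Finset.notMem_empty i)]
        rfl
      rw [e] at hβ
      rw [h.co.pi_eq_one hu (Up.cent (h.UP hu) hβ) hy hyD]
      exact one_mem _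
    | insert i I hi ih =>
      intro u hu hβ
      obtain ⟨u1, hu1, hu1A⟩ := h.exists_up fun j => if j ∈ I then 1 else 0
      have e : pi a b u y = pi a b (v i * u1) y := by
        refine h.co.pi_congr hu (mul_mem (hv i) hu1) ?_ hy hyD
        refine mem_cent_of_eq (M := M) (h.UP hu) (mul_mem (h.UP (hv i)) (h.UP hu1)) hβ ?_
        have h1 := Up.mul (h.UP hu1) (hvA i) hu1A
        have e : (Pi.single i 1 + fun j => if j ∈ I then (1 : F) else 0) =
            fun j => if j ∈ insert i I then (1 : F) else 0 := by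
          funext j
          rw [Pi.add_apply]
          by_cases hj : j = i
          · rw [hj, Pi.single_eq_same, if_neg hi, if_pos (Finset.mem_insert_self i I), add_zero]
          · rw [Pi.single_eq_of_ne hj, zero_add]
            by_cases hjI : j ∈ I
            · rw [if_pos hjI, if_pos (Finset.mem_insert_of_mem hjI)]
            · rw [if_neg hjI, if_neg fun h4 => (Finset.mem_insert.1 h4).elim hj hjI]
        rw [e] at h1
        exact h1
      rw [e, h.co.mul_pi (hv i) hu1 hyD]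
      refine mul_mem (hR i ?_) (ih u1 hu1 hu1A)
      obtain ⟨m1, d1⟩ := h.co.pi_mem (y := y) (hv i) hyD
      refine ⟨m1, d1, h.idem (hv i) (hvA i) (fun j => ?_) hy hyD⟩
      by_cases hj : j = i
      · rw [hj, Pi.single_eq_same]; exact Or.inr rfl
      · rw [Pi.single_eq_of_ne hj]; exact Or.inl rfl
  have h1 := key Finset.univ a h.co.aU (by
    have e : (fun i => if i ∈ (Finset.univ : Finset (Fin k)) then (1 : F) else 0) = fun _ => 1 := by
      funext i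
      rw [if_pos (Finset.mem_univ i)]
    rw [e]
    exact h.aA)
  rwa [h.co.pi_a hy hyD] at h1

/-- **The family.** -/
theorem fam [Finite G] {v : Fin k → G} (hv : ∀ i, v i ∈ U) (hvA : ∀ i, Up M (v i) (Pi.single i 1)) :
    Fam (normalizer (U : Set G)) U (U ⊓ centralizer (zl S P : Set G)) (fun i => U ⊓ centralizer (fac M i : Set G))
      (fun i => h.cenS (hv i)) (fun i => cj (a * b) (h.cenS (hv i))) where
  YU := inf_le_left
  MU := fun m hm u hu => (mem_normalizer_iff.1 hm u).1 hu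
  AU := fun i => inf_le_left
  YA := fun i => inf_le_inf_left _ (centralizer_le fun x hx => hx.1)
  inter := by
    intro u hu hA
    obtain ⟨β, hβ⟩ := h.exists_b hu
    refine ⟨hu, ?_⟩
    have h0 : β = 0 := funext fun i => (up_eq_zero_iff (M := M) (h.UP hu) hβ i).2 (hA i).2
    rw [h0] at hβ
    exact Up.cent (h.UP hu) hβ
  YcY := fun i y hy => ⟨hy.1, hy.2.1⟩
  gen := fun R hR y hy => h.gen hv hvA hR hy.1 hy.2
  EM := by
    intro i t ht
    rw [mem_cj] at ht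
    have h1 := h.co.rho_D ht.2.1
    have e : a * b * ((a * b)⁻¹ * t * (a * b)) * (a * b)⁻¹ = t := by group
    rw [e] at h1
    exact h.cent h1
  cent := by
    intro i x hx t ht
    rw [mem_cj] at ht
    obtain ⟨β, hβ⟩ := h.exists_b hx.1
    have h0 := (up_eq_zero_iff (M := M) (h.UP hx.1) hβ i).2 hx.2
    have h1 := h.pi_cen_eq_one (hv i) (hvA i) hx.1 hβ h0 ht.1 ht.2.1 ht.2.2
    unfold pi at h1
    have e : a * b * ((a * b)⁻¹ * t * (a * b)) * (a * b)⁻¹ = t := by group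
    rw [e] at h1
    calc x * t = x * t * x⁻¹ * t⁻¹ * (t * x) := by group
      _ = t * x := by rw [h1, one_mul]
  comm := by
    intro i u hu t ht
    rw [mem_cj] at ht
    have h1 := h.pi_mem_cen (hv i) (hvA i) hu ht.1 ht.2.1 ht.2.2
    obtain ⟨m1, d1⟩ := h.co.pi_mem (y := (a * b)⁻¹ * t * (a * b)) hu ht.2.1
    have e : a * b * ((a * b)⁻¹ * t * (a * b)) * (a * b)⁻¹ = t := by group
    have e1 : pi a b u ((a * b)⁻¹ * t * (a * b)) = u * t * u⁻¹ * t⁻¹ := by
      unfold pi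
      rw [e]
    rw [← e1]
    exact ⟨m1, d1, h1⟩
  full := by
    intro i u hu huA y hy
    obtain ⟨β, hβ⟩ := h.exists_b hu
    have h0 : β i ≠ 0 := fun h0 => huA ⟨hu, (up_eq_zero_iff (M := M) (h.UP hu) hβ i).1 h0⟩
    -- `pi u` on the centre
    have hinj : Function.Injective (fun x : h.cenS (hv i) => (⟨pi a b u x, by
        obtain ⟨m1, d1⟩ := h.co.pi_mem (y := (x : G)) hu x.2.2.1
        exact ⟨m1, d1, h.pi_mem_cen (hv i) (hvA i) hu x.2.1 x.2.2.1 x.2.2.2⟩⟩ : h.cenS (hv i))) := by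
      intro x y hxy
      have h1 : pi a b u x = pi a b u y := congrArg Subtype.val hxy
      have h2 : (x : G) * y ∈ h.cenS (hv i) := mul_mem x.2 y.2
      have h3 : pi a b u (x * y) = 1 := by
        rw [h.co.pi_mul hu x.2.1 x.2.2.1 y.2.1 y.2.2.1, h1]
        exact h.sq _ (h.co.pi_mem (y := (y : G)) hu y.2.2.1).1
      have h4 := h.inj_cen (hv i) (hvA i) hu hβ h0 h2.1 h2.2.1 h2.2.2 h3
      apply Subtype.ext
      have h5 := eq_inv_of_mul_eq_one_left h4
      rw [h5, h.co.sq' y.2.1]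
    obtain ⟨x, hx⟩ := Finite.injective_iff_surjective.1 hinj ⟨y, hy⟩
    have hx' : pi a b u x = y := congrArg Subtype.val hx
    refine ⟨a * b * x * (a * b)⁻¹, ?_, hx'⟩
    rw [mem_cj]
    have e : (a * b)⁻¹ * (a * b * x * (a * b)⁻¹) * (a * b) = x := by group
    rw [e]
    exact x.2
  trans := by
    intro i j
    obtain ⟨s, hs, hsf⟩ := exists_trans M h.SP i j
    refine ⟨s, h.SU hs, ?_⟩
    have h1 : cj s U = U := cj_eq_of_mem_normalizer (h.SU hs)
    change cj s (U ⊓ centralizer (fac M i : Set G)) = U ⊓ centralizer (fac M j : Set G)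
    rw [← hsf, ← cj_centralizer]
    ext x
    rw [mem_cj, mem_inf, mem_inf]
    nth_rewrite 2 [← h1]
    rw [mem_cj, mem_cj]

end CompsQ

end Cfsg.Agent.Omega.NOThreeL.ATwo

end

-- merged: Cfsg.Agent.Mrg.Omega.NOThreeL.ATwo.MainQ
section

/-!
# NO-3L A1, A2: no natural modules (text #16411, helper69)

`D : DataZ S`, `E : Exact S P H`, `V_P` a sum of `k ≥ 1` natural `SL₂(F)`-modules: contradiction, for all finite
fields `F` of characteristic 2.

* `FrQ` : the situation; `ind` : `U_H` induces all upper unitriangular elements of `SL₂(F)^k`;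
* `FrQ.cfg` : `CfgQ M U_H`;
* `false_of_exact` : the contradiction; `a1`, `a2` : the sockets `Main.A1`, `Main.A2`.
-/

set_option autoImplicit false
set_option Elab.async false

namespace Cfsg.Agent.Omega.NOThreeL.ATwo

open Subgroup Cfsg Cfsg.Agent.ZN Cfsg.Agent.Omega.FrameNOFF
open Cfsg.Agent.ZN.ChoiceBase hiding mem_zc
open Cfsg.Agent.Omega.MinPar Cfsg.Agent.Omega.FFThm Cfsg.Agent.Omega.Node.NO3L Cfsg.Agent.Omega.Frame
open Cfsg.Agent.Omega.NOThreeL.Basic Cfsg.Agent.Omega.NOThreeL.Main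
open Cfsg.Agent.MinSimple.VModule (le_normalizer_zl zl_le zc_le_zl zc_le mem_zc zl_comm zl_sq le_o2 o2_isPGroup
  le_normalizer_o2 le_centralizer_zc o2_le)
open Cfsg.Agent.Omega.NatPair (ap ap_mul ap_one ap_inv_ap ap_ap_inv exists_ap ap_add)
open Cfsg.Agent.Omega.IId (Ind exists_ind exists_trans)
open scoped Pointwise

universe u

variable {G : Type u} [Group G] [Finite G] {S : Sylow 2 G} {P H : Subgroup G} {F : Type} [Field F] {k : ℕ}

/-- The situation. -/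
structure FrQ (S : Sylow 2 G) (P H : Subgroup G) (M : NatK F (S : Subgroup G) P (zl (S : Subgroup G) P) ⊥ k) : Prop
    where
  hc : IsCharacteristicTwoType G
  ne : (S : Subgroup G) ≠ ⊥
  D : Data (S : Subgroup G)
  E : Exact (S : Subgroup G) P H
  pos : 0 < k

namespace FrQ

variable {M : NatK F (S : Subgroup G) P (zl (S : Subgroup G) P) ⊥ k} (h : FrQ S P H M)
include h

theorem SP : (S : Subgroup G) ≤ P := h.E.par.le

theorem SH : (S : Subgroup G) ≤ H := h.E.long.loc.le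

theorem US : zl (S : Subgroup G) H ≤ (S : Subgroup G) := IsLong.zl_le_S h.hc h.E.long

theorem UP : zl (S : Subgroup G) H ≤ P := h.US.trans h.SP

theorem VS : zl (S : Subgroup G) P ≤ (S : Subgroup G) := IsParS.zl_le_S h.hc h.E.par

theorem ab : ∀ u ∈ zl (S : Subgroup G) H, ∀ v ∈ zl (S : Subgroup G) H, u * v = v * u := by
  intro u hu v hv
  have h1 := (NOThreeL.Pair.zl_abel h.hc S h.E.long.loc).1
  exact mem_centralizer_iff.1 (h1 hv) u hu

theorem sq : ∀ u ∈ zl (S : Subgroup G) H, u * u = 1 := by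
  intro u hu
  have h1 := (mem_zc.1 (h.E.long.loc.zl_le S h.hc hu)).2.2
  rwa [pow_two] at h1

/-- `U_H` induces all upper unitriangular elements of `SL₂(F)^k`. -/
theorem ind : Ind M (zl (S : Subgroup G) H) Set.univ := by
  obtain ⟨I, hI⟩ := exists_ind M h.US h.E.off
  have hI' : I = Set.univ := by
    by_contra hne
    obtain ⟨j, hj⟩ : ∃ j, j ∉ I := by
      by_contra hcon
      push Not at hcon
      exact hne (Set.eq_univ_of_forall hcon)
    refine h.E.off.ne fun u hu => ?_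
    obtain ⟨b, hb, hub⟩ := hI.act u hu
    have hb0 : b = 0 := by
      funext i
      by_contra h0
      obtain ⟨t, ht, htf⟩ := exists_trans M h.SP j i
      have hu' : t⁻¹ * u * t ∈ zl (S : Subgroup G) H := by
        have h1 := (mem_normalizer_iff.1 (inv_mem (le_normalizer_zl _ _ (h.SH ht))) u).1 hu
        rwa [inv_inv] at h1
      obtain ⟨b', hb', hub'⟩ := hI.act _ hu'
      have h2 := (up_eq_zero_iff (M := M) (h.UP hu') hub' j).1 (hb' j hj)
      apply h0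
      refine (up_eq_zero_iff (M := M) (h.UP hu) hub i).2 ?_
      rw [mem_centralizer_iff] at h2 ⊢
      intro v hv
      have hv' : t⁻¹ * v * t ∈ IId.fac M j := by
        rw [← mem_cj, htf]
        exact hv
      have h3 := h2 _ hv'
      calc v * u = t * ((t⁻¹ * v * t) * (t⁻¹ * u * t)) * t⁻¹ := by group
        _ = t * ((t⁻¹ * u * t) * (t⁻¹ * v * t)) * t⁻¹ := by rw [h3]
        _ = u * v := by group
    rw [hb0] at hub
    exact Up.cent (M := M) (h.UP hu) hub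
  rw [← hI']
  exact hI

/-- A nontrivial `S`-invariant subgroup of `U_H` meets `Z`. -/
theorem core {T : Subgroup G} (hT : T ≤ zl (S : Subgroup G) H)
    (hn : (S : Subgroup G) ≤ normalizer (T : Set G)) (h1 : T ≠ ⊥) :
    ∃ x ∈ T, x ≠ 1 ∧ x ∈ zc (S : Subgroup G) := by
  have : Fact (Nat.Prime 2) := ⟨Nat.prime_two⟩
  have hTp : IsPGroup 2 T := S.isPGroup'.to_le (hT.trans h.US)
  have h2 := Cfsg.Agent.PLocal.OffenderStep.inf_centralizer_ne_bot T (S : Subgroup G) hTp S.isPGroup' hn h1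
  obtain ⟨x, hx, hx1⟩ : ∃ x ∈ T ⊓ centralizer ((S : Subgroup G) : Set G), x ≠ 1 := by
    by_contra hcon
    push Not at hcon
    exact h2 ((eq_bot_iff_forall _).2 hcon)
  rw [mem_inf] at hx
  refine ⟨x, hx.1, hx1, mem_zc.2 ⟨h.US (hT hx.1), fun b hb => mem_centralizer_iff.1 hx.2 b hb, ?_⟩⟩
  rw [pow_two]
  exact h.sq x (hT hx.1)

theorem cfg : CfgQ M (zl (S : Subgroup G) H) where
  pos := h.pos
  SP := h.SP
  ind := h.ind
  UP := h.UP
  SU := h.SH.trans (le_normalizer_zl _ _)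
  cent := ((centralizer_le (zc_le_zl _ _)).trans h.E.long.cz).trans (le_normalizer_zl _ _)
  ab := h.ab
  sq := h.sq
  core := by
    intro T hT hn h1
    obtain ⟨x, hx, hx1, hxz⟩ := h.core hT hn h1
    exact ⟨x, hx, hx1, zc_le_zl _ _ hxz⟩

/-- `W_H` centralises `V`. -/
theorem WV : W (S : Subgroup G) H ≤ centralizer (zl (S : Subgroup G) P : Set G) := by
  have h1 : W (S : Subgroup G) H ≤ WP (S : Subgroup G) := W_le fun P hP _ c hc => line_le_WP hP hc
  have h2 := Basic.comm_of_le h.hc h.D (x := 1) (y := 1) (by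
    rw [map_one, one_smul, one_smul]; exact WP_le_Q h.D) (by
    rw [map_one, one_smul, one_smul]; exact WP_le_Q h.D)
  rw [map_one, one_smul] at h2
  exact (h1.trans h2).trans (centralizer_le (zl_le_WP h.E.par))

omit [Finite G] h in
theorem smul_eq_cj (g : G) (A : Subgroup G) : MulAut.conj g • A = cj g A := by
  ext x
  rw [NoFF.Basic.mem_conj, mem_cj]

theorem false_of [CharP F 2] : False := by
  obtain ⟨a, b, w, U', hC⟩ := h.cfg.exists_comps
  choose v hv hvA using fun i : Fin k => hC.exists_up (Pi.single i 1)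
  have hF := hC.fam hv hvA
  have hWU : W (S : Subgroup G) H ≤ zl (S : Subgroup G) H := W_le_zl h.E.long.cz
  have hWY : W (S : Subgroup G) H ≤
      zl (S : Subgroup G) H ⊓ centralizer (zl (S : Subgroup G) P : Set G) := le_inf hWU h.WV
  have hWn : centralizer (zc (S : Subgroup G) : Set G) ≤ normalizer (W (S : Subgroup G) H : Set G) :=
    CZ_le_normalizer_W _ _
  have hZ : zc (S : Subgroup G) ≤ zl (S : Subgroup G) H ⊓ centralizer (zl (S : Subgroup G) P : Set G) := by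
    refine le_inf (zc_le_zl _ _) ?_
    rw [le_centralizer_iff]
    exact h.VS.trans (le_centralizer_zc _)
  have h1 := conn_W S h.E.long.loc (zl (S : Subgroup G) H ⊓ centralizer (zl (S : Subgroup G) P : Set G)) hZ
    fun g hg hgZ => by
      rw [smul_eq_cj] at hgZ ⊢
      exact hF.claim hWY hWn hg hgZ
  exact h.E.off.ne (h1.trans inf_le_right)

end FrQ

/-- **No natural modules** (text #16411): the frames of A1 and A2 are void. -/
theorem false_of_exact (hG : Frame.Ctx G) {S : Sylow 2 G} (D : DataZ (S : Subgroup G)) {P H : Subgroup G}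
    (E : Exact (S : Subgroup G) P H) {F : Type} [Field F] [CharP F 2] {k : ℕ} (hk : 0 < k)
    (M : NatK F (S : Subgroup G) P (zl (S : Subgroup G) P) (FrameFF.cv (S : Subgroup G) P) k) : False := by
  have h1 := DataZ.cv_eq hG.char2 D E.par
  rw [h1] at M
  exact FrQ.false_of (M := M) ⟨hG.char2, hG.sylow_ne_bot S, D.toData, E, hk⟩

/-- **The leaf A1.** -/
theorem a1 (K : Cls.{u}) : Main.A1 K := by
  intro G _ _ hG _ S _ D P H E F _ _ _ M
  exact (false_of_exact hG D E Nat.one_pos M).elim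

/-- **The leaf A2.** -/
theorem a2 (K : Cls.{u}) : Main.A2 K := by
  intro G _ _ hG _ S _ D P H E F _ _ _ k hk M
  exact (false_of_exact hG D E (by omega) M).elim

end Cfsg.Agent.Omega.NOThreeL.ATwo

end
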